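import Cfsg.Agent.Lib.Tur.Basic

/-!
# Averaging over a group acted on semiregularly, and the critical Hall-Higman configuration
-/

set_option autoImplicit false

namespace CfsgLib.Tur

open Subgroup Finset Module CfsgLib.HH CfsgLib.FPF CfsgLib.Coprime
open scoped commutatorElement

variable {F : Type*} [Field F] {Γ : Type*} [Group Γ] {W : Type*} [AddCommGroup W] [Module F W]
variable {ρ : Representation F Γ W} {σ : Γ} {r : ℕ}

theorem sum_conj_eq [Finite Γ] {T : Subgroup Γ} [Fintype T] {u : Γ} (hu : u ∈ 𝒩(T))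
    (h : ∀ d ∈ T, u * d = d * u → d = 1) :
    ∑ d : T, ρ (d * u * (d : Γ)⁻¹) = av ρ T * ρ u := by
  let φ : T → T := fun d => ⟨d * (u * (d : Γ)⁻¹ * u⁻¹),
    mul_mem d.2 ((mem_normalizer_iff.1 hu _).1 (inv_mem d.2))⟩
  have hinj : Function.Injective φ := by
    intro a b hab
    have h1 : (a : Γ) * (u * (a : Γ)⁻¹ * u⁻¹) = b * (u * (b : Γ)⁻¹ * u⁻¹) :=
      congrArg Subtype.val hab
    have h2 := h ((b : Γ)⁻¹ * a) (mul_mem (inv_mem b.2) a.2) (by
      calc u * ((b : Γ)⁻¹ * a) = (b : Γ)⁻¹ * (b * (u * (b : Γ)⁻¹ * u⁻¹)) * u * a := by group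
        _ = _ := by rw [← h1]; group)
    exact Subtype.ext (inv_mul_eq_one.1 h2).symm
  rw [av_eq, sum_mul]
  refine Fintype.sum_bijective φ (Finite.injective_iff_bijective.1 hinj) _ _ fun d => ?_
  rw [← map_mul]
  congr 1
  simp only [φ]
  group

theorem eq_one_of_avg_faithful [Finite Γ] {T : Subgroup Γ} (hc : (Nat.card T : F) ≠ 0)
    (hr0 : 0 < r) {x : Γ} (hx : x ∈ 𝒩(T)) (hσT : σ ∈ 𝒩(T))
    (h1 : ∀ j, ∀ d ∈ T, x * σ ^ j * d = d * (x * σ ^ j) → d = 1)
    (h2 : ∀ j, 0 < j → j < r → ∀ d ∈ T, σ ^ j * d = d * σ ^ j → d = 1)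
    (h : ∀ w, av ρ T w = 0 → ρ x (tr ρ σ r w) = tr ρ σ r w) : ∀ d ∈ T, ρ d = 1 := by
  have := Fintype.ofFinite T
  have key : ∀ w, av ρ T w = 0 → w = 0 := by
    intro w hw
    have h3 : ∀ u ∈ 𝒩(T), (∀ d ∈ T, u * d = d * u → d = 1) →
        ∑ d : T, ρ (d * u * (d : Γ)⁻¹) w = 0 := by
      intro u hu hf
      rw [← LinearMap.sum_apply, sum_conj_eq hu hf, ← av_comm hu, Module.End.mul_apply, hw,
        map_zero]
    have h4 : ∑ d : T, ∑ j ∈ range r, ρ (d * (x * σ ^ j) * (d : Γ)⁻¹) w =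
        ∑ d : T, ∑ j ∈ range r, ρ (d * σ ^ j * (d : Γ)⁻¹) w := by
      refine sum_congr rfl fun d _ => ?_
      have := congrArg (ρ d) (h (ρ (d : Γ)⁻¹ w) (by
        rw [← Module.End.mul_apply, av_mul (inv_mem d.2), hw]))
      simpa only [tr_apply, map_sum, rep_rep, mul_assoc] using this
    rw [sum_comm, sum_comm (s := univ), sum_eq_zero fun j _ => h3 _ (mul_mem hx (pow_mem hσT j))
      (h1 j), sum_eq_single_of_mem 0 (mem_range.2 hr0) fun j hj j0 => h3 _ (pow_mem hσT j)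
      (h2 j (Nat.pos_of_ne_zero j0) (mem_range.1 hj))] at h4
    simp only [pow_zero, mul_one, mul_inv_cancel, map_one, Module.End.one_apply, sum_const,
      card_univ] at h4
    rw [← Nat.cast_smul_eq_nsmul F, ← Nat.card_eq_fintype_card] at h4
    exact (smul_eq_zero.1 h4.symm).resolve_left hc
  intro d hd
  ext w
  rw [Module.End.one_apply, ← sub_eq_zero]
  refine key _ ?_
  rw [map_sub, ← Module.End.mul_apply, av_mul hd, sub_self]

/-- if `x` fixes the traces of the vectors moved by `T`, and `⟨σ, x⟩` is sufficiently semiregular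
on `T`, then `T` acts trivially -/
theorem eq_one_of_avg [Finite Γ] {T : Subgroup Γ} (hc : (Nat.card T : F) ≠ 0)
    (hr0 : 0 < r) {x : Γ} (hx : x ∈ 𝒩(T)) (hσT : σ ∈ 𝒩(T))
    (h1 : ∀ j, ∀ d ∈ T, ρ (x * σ ^ j * d) = ρ (d * (x * σ ^ j)) → ρ d = 1)
    (h2 : ∀ j, 0 < j → j < r → ∀ d ∈ T, ρ (σ ^ j * d) = ρ (d * σ ^ j) → ρ d = 1)
    (h : ∀ w, (∀ φ : Module.End F W, (∀ d ∈ T, φ * ρ d = φ) → φ w = 0) →
      ρ x (tr ρ σ r w) = tr ρ σ r w) : ∀ d ∈ T, ρ d = 1 := by
  let f := (MonoidHom.toHomUnits ρ).rangeRestrict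
  have : Finite (MonoidHom.toHomUnits ρ).range :=
    Finite.of_surjective f (MonoidHom.rangeRestrict_surjective _)
  let τ : Representation F (MonoidHom.toHomUnits ρ).range W := (Units.coeHom _).comp (Subgroup.subtype _)
  have e : ∀ g, τ (f g) = ρ g := fun g => rfl
  have inj : ∀ g g', f g = f g' ↔ ρ g = ρ g' := fun g g' =>
    ⟨fun h => by rw [← e, h, e], fun h => Subtype.ext (Units.ext h)⟩
  have hc' : (Nat.card (T.map f) : F) ≠ 0 := by
    obtain ⟨k, hk⟩ := card_map_dvd T f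
    intro h0
    exact hc (by rw [hk, Nat.cast_mul, h0, zero_mul])
  intro d hd
  rw [← e]
  refine eq_one_of_avg_faithful (ρ := τ) (T := T.map f) (σ := f σ) (x := f x) hc' hr0
    (le_normalizer_map f ⟨x, hx, rfl⟩) (le_normalizer_map f ⟨σ, hσT, rfl⟩) ?_ ?_ ?_ _ ⟨d, hd, rfl⟩
  · rintro j _ ⟨d, hd, rfl⟩ hc
    rw [← map_one f, inj, map_one]
    exact h1 j d hd ((inj _ _).1 (by simpa only [map_mul, map_pow] using hc))
  · rintro j j0 hj _ ⟨d, hd, rfl⟩ hc
    rw [← map_one f, inj, map_one]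
    exact h2 j j0 hj d hd ((inj _ _).1 (by simpa only [map_mul, map_pow] using hc))
  · intro w hw
    have e2 : tr τ (f σ) r = tr ρ σ r := sum_congr rfl fun j _ => by rw [← map_pow, e]
    rw [e2, e]
    refine h w fun φ hφ => ?_
    have := congrArg (· w) (mul_av_of_inv (ρ := τ) (H := T.map f) (φ := φ) (by
      rintro _ ⟨d, hd, rfl⟩
      exact hφ d hd))
    simp only [Module.End.mul_apply, hw, map_zero, LinearMap.smul_apply] at this
    exact (smul_eq_zero.1 this.symm).resolve_left hc'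

theorem mem_normalizer_inf_vecStab [Finite Γ] {T : Subgroup Γ} {v : W} (hσ : σ ∈ 𝒩(T))
    (hv : ρ σ v = v) : σ ∈ 𝒩(T ⊓ vecStab ρ v) :=
  inf_normalizer_le_normalizer_inf ⟨hσ, le_normalizer (show σ ∈ vecStab ρ v from hv)⟩

theorem comm_mem_vecStab {v : W} (hv : ρ σ v = v) {g : Γ} (hg : ρ σ (ρ g v) = ρ g v) :
    σ * g⁻¹ * σ⁻¹ * g⁻¹⁻¹ ∈ vecStab ρ v := by
  have h1 : ρ σ⁻¹ (ρ g v) = ρ g v := by
    conv_lhs => rw [← hg]
    simp
  change ρ _ v = v
  rw [inv_inv, ← rep_rep, ← rep_rep, ← rep_rep, h1, Representation.inv_self_apply, hv]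

/-- an abelian group on which `x` and `σ` act without fixed points, `x` fixing `A` -/
theorem abelian_case [Finite Γ] [FiniteDimensional F W] (hr : r.Prime) (hσ : σ ^ r = 1)
    (hrF : (r : F) ≠ 0) {A : Submodule F W} {T : Subgroup Γ} (hc : (Nat.card T : F) ≠ 0)
    (hcr : ¬ r ∣ Nat.card T) (hP : PP ρ σ r A T) (hab : T ≤ 𝒞(T)) {x : Γ} (hx : x ∈ 𝒩(T))
    (hσT : σ ∈ 𝒩(T)) (hxA : x ∈ kerOn ρ A)
    (h1 : ∀ j, ∀ d ∈ T, x * σ ^ j * d = d * (x * σ ^ j) → d = 1)
    (h2 : ∀ d ∈ T, σ * d = d * σ → d = 1) : ∀ d ∈ T, ρ d = 1 := by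
  classical
  have := Fintype.ofFinite T
  have key : ∀ v, Good ρ σ r A T v → v ∈ A ⊔ fixSp ρ T := by
    intro v hv
    have hcop : (orderOf σ).Coprime (Nat.card ↥(T ⊓ vecStab ρ v)) := by
      rw [← Nat.card_zpowers]
      exact (cop_of_not_dvd hr hσ hcr).coprime_dvd_right (card_dvd_of_le inf_le_left)
    have h3 : ∀ g : T, tr ρ σ r (ρ g v) -
        (if g ∈ (vecStab ρ v).subgroupOf T then (r : F) • v else 0) ∈ A := by
      intro g
      split_ifs with hg
      · rw [show ρ g v = v from hg, tr_of_fixed hv.1, sub_self]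
        exact zero_mem _
      · rw [sub_zero]
        refine (hv.2 g g.2).resolve_left fun h => hg (mem_subgroupOf.2 ((vecStab ρ v).inv_mem_iff.1 ?_))
        exact (mem_of_comm_mem (P := T) (N := T ⊓ vecStab ρ v) inf_le_left
          (hab.trans ((centralizer_le (SetLike.coe_subset_coe.2 inf_le_left)).trans
            (centralizer_le_normalizer _))) (mem_normalizer_inf_vecStab hσT hv.1) hcop
          (fun d hd e => h2 d hd e ▸ one_mem _) (T.inv_mem g.2)
          ⟨T.mul_mem ((mem_normalizer_iff.1 hσT _).1 (T.inv_mem g.2)) (T.inv_mem (T.inv_mem g.2)),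
            comm_mem_vecStab hv.1 h⟩).2
    have h4 := A.sum_mem fun g (_ : g ∈ univ) => h3 g
    rw [sum_sub_distrib, ← map_sum, ← av_apply, tr_of_fixed (by
      rw [apply_comm (av_comm hσT), hv.1]), ← sum_filter, sum_const, ← Nat.cast_smul_eq_nsmul F,
      smul_smul, ← Fintype.card_subtype, ← Nat.card_eq_fintype_card] at h4
    have h5 : ((Nat.card ((vecStab ρ v).subgroupOf T) : F) * r) ≠ 0 := by
      refine mul_ne_zero (fun h0 => hc ?_) hrF
      rw [← card_mul_index ((vecStab ρ v).subgroupOf T), Nat.cast_mul, h0, zero_mul]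
    rw [← Submodule.smul_mem_iff _ h5, ← sub_sub_cancel ((r : F) • av ρ T v) (_ • v)]
    exact sub_mem (Submodule.mem_sup_right ((fixSp ρ T).smul_mem _ (av_mem_fixSp v)))
      (Submodule.mem_sup_left h4)
  refine eq_one_of_avg_faithful hc hr.pos hx hσT h1 (fun j j0 hj d hd e => h2 d hd ?_)
    fun w hw => ?_
  · exact mem_centralizer_singleton_iff.1 (mem_of_pow_mem hr (hσ ▸ one_mem _)
      (Nat.not_dvd_of_pos_of_lt j0 hj) (mem_centralizer_singleton_iff.2 e))
  · rw [← sub_eq_zero]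
    refine eq_zero_of_av (ρ := ρ) hc ?_ ?_
    · rw [map_sub, ← apply_comm (av_comm hx), tr_comm (av_comm hσT).symm, hw, map_zero, map_zero,
        sub_self]
    · obtain ⟨a, ha, u, hu, e⟩ := Submodule.mem_sup.1
        (hP.ind le_sup_left key (tr_fixed (ρ := ρ) hσ w))
      rw [← e, map_add, hxA a ha, add_sub_add_left_eq_sub]
      exact sub_mem (apply_mem_fixSp hx hu) hu

theorem PP.map {Γ' : Type*} [Group Γ'] {W' : Type*} [AddCommGroup W'] [Module F W']
    {ρ' : Representation F Γ' W'} {σ' : Γ'} (hσ : σ ^ r = 1) (hrF : (r : F) ≠ 0)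
    {A : Submodule F W} {S : Subgroup Γ} (h : PP ρ σ r A S) (π : W →ₗ[F] W')
    (hπ : Function.Surjective π) (h1 : ∀ w, π (ρ σ w) = ρ' σ' (π w)) {S' : Subgroup Γ'}
    (h2 : ∀ g' ∈ S', ∃ g ∈ S, ∀ w, π (ρ g w) = ρ' g' (π w)) : PP ρ' σ' r (A.map π) S' := by
  have ht : ∀ w, π (tr ρ σ r w) = tr ρ' σ' r (π w) := by
    intro w
    rw [tr_apply, tr_apply, map_sum]
    refine sum_congr rfl fun j hj => ?_
    clear hj
    induction j with
    | zero => simp
    | succ j ih => rw [pow_succ', pow_succ', ← rep_rep, ← rep_rep, h1, ih]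
  intro w hw
  obtain ⟨u, rfl⟩ := hπ w
  rw [← Submodule.smul_mem_iff _ hrF, ← tr_of_fixed hw, ← ht]
  refine Submodule.mem_comap.1 (h.ind (fun a ha => Submodule.mem_comap.2
    (Submodule.mem_sup_left (Submodule.mem_map_of_mem ha))) (fun v hv => ?_) (tr_fixed hσ u))
  refine Submodule.mem_comap.2
    (Submodule.mem_sup_right (Submodule.subset_span ⟨by rw [← h1, hv.1], ?_⟩))
  intro g' hg'
  obtain ⟨g, hg, e⟩ := h2 g' hg'
  rw [← e, ← h1, ← ht]
  exact (hv.2 g hg).imp (fun e => by rw [e]) fun e => ⟨_, e, rfl⟩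

theorem not_powIndep_of_aeval {T : Module.End F W} {m : ℕ} {f : Polynomial F} (h0 : f.coeff 0 ≠ 0)
    (hd : f.natDegree < m) (hf : Polynomial.aeval T f = 0) : ¬ PowIndep (F := F) T m := fun h =>
  h0 (h f.coeff (by rw [← Polynomial.aeval_eq_sum_range' hd, hf]) 0 (by omega))

open Polynomial in
theorem not_powIndep_rel {T : Module.End F W} {s m : ℕ} (hs : 0 < s) (hr0 : 0 < r) (a b : F)
    (h : (a • T - 1) * ∑ t ∈ range r, b ^ t • T ^ (s * t) = 0) (hm : s * (r - 1) + 1 < m) :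
    ¬ PowIndep (F := F) T m := by
  refine not_powIndep_of_aeval
    (f := (C a * X - 1) * ∑ t ∈ range r, C (b ^ t) * X ^ (s * t)) ?_ ?_ ?_
  · rw [coeff_zero_eq_eval_zero, eval_mul, eval_finsetSum,
      sum_eq_single_of_mem 0 (mem_range.2 hr0) fun t _ t0 => by simp [hs.ne', t0]]
    simp
  · refine lt_of_le_of_lt natDegree_mul_le (lt_of_le_of_lt ?_ hm)
    rw [add_comm]
    refine add_le_add (natDegree_sum_le_of_forall_le _ _ fun t ht =>
      (natDegree_C_mul_X_pow_le _ _).trans (Nat.mul_le_mul_left _ ?_)) (by compute_degree)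
    have := mem_range.1 ht
    omega
  · simpa [Algebra.smul_def, -map_pow, map_pow (aeval T)] using h

/-- the critical configuration -/
theorem crit [Finite Γ] [IsAlgClosed F] [FiniteDimensional F W] [Nontrivial W] (hr : r.Prime)
    (hσ : σ ^ r = 1) (hrF : (r : F) ≠ 0) {q s k : ℕ} (hq : q.Prime) (hs : s.Prime) (hqr : q ≠ r)
    (hsr : s ≠ r) (hqF : (q : F) ≠ 0) {D : Subgroup Γ} (hD : IsPGroup q D)
    (hcomm : ∀ a ∈ D, ∀ b ∈ D, a * b * a⁻¹ * b⁻¹ ∈ scal ρ)
    (hcent : ∀ a ∈ D, (∀ b ∈ D, ρ a * ρ b = ρ b * ρ a) → a ∈ scal ρ) (hne : ¬ D ≤ scal ρ) {x : Γ}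
    (hx : x ∈ 𝒩(D)) (hσD : σ ∈ 𝒩(D)) (hxσ : Commute x σ) (hxk : x ^ s ^ k = 1)
    (hxs : x ^ s ∈ 𝒞(D)) (hfx : ∀ a ∈ D, x * a * x⁻¹ * a⁻¹ ∈ scal ρ → a ∈ scal ρ)
    (hfσ : ∀ a ∈ D, σ * a * σ⁻¹ * a⁻¹ ∈ scal ρ → a ∈ scal ρ)
    (hirr : ∀ U : Submodule F W, D ≤ stab ρ U → x ∈ stab ρ U → σ ∈ stab ρ U → U = ⊥ ∨ U = ⊤)
    {A : Submodule F W} (hP : PP ρ σ r A D) (hxA : x ∈ kerOn ρ A) :
    s = 2 ∧ ∃ N, N + 1 = 2 * r ∧ N ^ 2 = (scal ρ).relIndex D := by
  classical
  have := Fact.mk hq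
  have := scal_normal ρ
  have hc : (Nat.card D : F) ≠ 0 := card_ne_zero_of_isPGroup hqF hD
  have hrs : ¬ r ∣ s := fun h => hsr ((Nat.prime_dvd_prime_iff_eq hr hs).1 h).symm
  have hsr' : ¬ s ∣ r := fun h => hsr ((Nat.prime_dvd_prime_iff_eq hs hr).1 h)
  have fp : ∀ i j : ℕ, ¬ s ∣ i ∨ ¬ r ∣ j → ∀ a ∈ D,
      x ^ i * σ ^ j * a * (x ^ i * σ ^ j)⁻¹ * a⁻¹ ∈ scal ρ → a ∈ scal ρ := by
    intro i j hij a ha h
    have h1 : x ^ i * σ ^ j ∈ cosetStab (scal ρ) a := ⟨le_normalizer_of_normal (mem_top _), h⟩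
    rcases hij with hi | hj
    · have h2 := pow_mem h1 r
      rw [(hxσ.pow_pow i j).mul_pow, ← pow_mul σ, mul_comm j, pow_mul σ, hσ, one_pow, mul_one,
        ← pow_mul] at h2
      refine hfx a ha (mem_of_pow_mem (C := cosetStab (scal ρ) a) hs
        ⟨le_normalizer_of_normal (mem_top _), ?_⟩
        (fun h => (hs.dvd_mul.1 h).elim hi hsr') h2).2
      rw [← hxs a ha]
      simp [one_mem]
    · have h2 := pow_mem h1 (s ^ k)
      rw [(hxσ.pow_pow i j).mul_pow, ← pow_mul x, mul_comm i, pow_mul x, hxk, one_pow, one_mul,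
        ← pow_mul] at h2
      exact hfσ a ha (mem_of_pow_mem (C := cosetStab (scal ρ) a) hr (hσ ▸ one_mem _)
        (fun h => (hr.dvd_mul.1 h).elim hj fun h => hrs (hr.dvd_of_dvd_pow h)) h2).2
  have hy : x * σ ∈ 𝒩(D) := mul_mem hx hσD
  have hirr' : ∀ U : Submodule F W, (∀ g ∈ D, ∀ v ∈ U, ρ g v ∈ U) → (∀ v ∈ U, ρ (x * σ) v ∈ U) →
      U = ⊥ ∨ U = ⊤ := by
    intro U h1 h2
    have h3 := pow_mem (show x * σ ∈ stab ρ U from h2) (s ^ k)
    rw [hxσ.mul_pow, hxk, one_mul] at h3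
    have h4 := mem_of_pow_mem hr (hσ ▸ one_mem _) (fun h => hrs (hr.dvd_of_dvd_pow h)) h3
    exact hirr U h1 (((stab ρ U).mul_mem_cancel_right h4).1 h2) h4
  have hfy : ∀ i, 0 < i → i < r * s → ∀ a ∈ D,
      (x * σ) ^ i * a * ((x * σ) ^ i)⁻¹ * a⁻¹ ∈ scal ρ → a ∈ scal ρ := by
    intro i i0 hi a ha
    rw [hxσ.mul_pow]
    refine fp i i ?_ a ha
    by_contra hc
    push Not at hc
    exact Nat.not_dvd_of_pos_of_lt i0 hi (((Nat.coprime_primes hr hs).2 hsr.symm).mul_dvd_of_dvd_of_dvd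
      hc.2 hc.1)
  have h2rs : 2 ≤ r * s := hr.two_le.trans (Nat.le_mul_of_pos_right _ hs.pos)
  have hschur := schur_of_fpf ρ D (x * σ) hy hcomm hcent
    (fun a ha h' => hfy 1 one_pos (by omega) a ha (by simpa using h')) hc hirr'
  obtain ⟨κ, hκ⟩ := mem_scal.1 (show x ^ s ∈ scal ρ by
    obtain ⟨c, hc⟩ := hschur (ρ (x ^ s)) fun b hb => rep_comm (hxs b hb)
    exact mem_scal_of_eq_smul hc)
  have hyh : (x * σ) ^ (r * s) = (x ^ s) ^ r := by
    rw [hxσ.mul_pow, pow_mul σ, hσ, one_pow, mul_one, mul_comm, pow_mul]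
  obtain ⟨hdim, hdvd, hle⟩ := core_count ρ D (x * σ) hy (r * s) h2rs
    (hyh ▸ pow_mem (mem_scal.2 ⟨κ, hκ⟩) r) hcomm hcent hfy hc hirr'
  have hN1 : finrank F W ≠ 1 := fun h => hne (by rwa [h, one_pow, eq_comm, relIndex_eq_one] at hdim)
  -- `x` fixes the fixed vectors of `σ`
  obtain ⟨β, hβ⟩ : ∃ β : Module.End F W, β = (ρ x - 1) * tr ρ σ r := ⟨_, rfl⟩
  have hβa : ∀ w, β w = ρ x (tr ρ σ r w) - tr ρ σ r w := fun w => by rw [hβ]; rfl
  have hβ0 : β = 0 := by
    by_contra hβ0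
    obtain ⟨v, hv, hβv⟩ : ∃ v, Good ρ σ r A D v ∧ β v ≠ 0 := by
      by_contra hcon
      push Not at hcon
      have h1 : ∀ w, ρ σ w = w → w ∈ LinearMap.ker (ρ x - 1) := by
        intro w hw
        refine hP.ind (fun a ha => ?_) (fun v hv => ?_) hw
        · rw [LinearMap.mem_ker, LinearMap.sub_apply, hxA a ha, Module.End.one_apply, sub_self]
        · have := hcon v hv
          rw [hβ, Module.End.mul_apply, tr_of_fixed hv.1, map_smul] at this
          exact (smul_eq_zero.1 this).resolve_left hrF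
      refine hβ0 (LinearMap.ext fun w => ?_)
      rw [hβ, Module.End.mul_apply, LinearMap.mem_ker.1 (h1 _ (tr_fixed hσ w)), LinearMap.zero_apply]
    set N := (D ⊓ scal ρ) ⊔ (D ⊓ vecStab ρ v)
    have hND : N ≤ D := sup_le inf_le_left inf_le_left
    have h1 : ∀ g ∈ D, g ∉ N → β (ρ g v) = 0 := by
      intro g hg hgN
      rcases hv.2 g hg with h | h
      · refine absurd (N.inv_mem_iff.1 (mem_of_comm_mem (P := D) hND
          (le_normalizer_of_commutator_le hND (commutator_le.2 fun a ha b hb =>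
            mem_sup_left ⟨D.mul_mem (D.mul_mem (D.mul_mem ha hb) (D.inv_mem ha)) (D.inv_mem hb),
              hcomm a ha b hb⟩))
          (Core.normalizer_inf_le_normalizer_sup _ _ ⟨inf_normalizer_le_normalizer_inf
            ⟨hσD, le_normalizer_of_normal (mem_top _)⟩, mem_normalizer_inf_vecStab hσD hv.1⟩)
          ?_ (fun d hd e => mem_sup_left ⟨hd, hfσ d hd (by rw [e]; simp [one_mem])⟩) (D.inv_mem hg)
          (mem_sup_right ⟨D.mul_mem ((mem_normalizer_iff.1 hσD _).1 (D.inv_mem hg))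
            (D.inv_mem (D.inv_mem hg)), comm_mem_vecStab hv.1 h⟩))) hgN
        rw [← Nat.card_zpowers]
        exact cop_of_isPGroup hr hσ hq hqr (hD.to_le hND)
      · rw [hβa, hxA _ h, sub_self]
    have h2 : ∀ g ∈ N, ∃ c : F, c • v = ρ g v := by
      intro g hg
      refine Submodule.mem_span_singleton.1 ((sup_le ?_ ?_ : N ≤ stab ρ (Submodule.span F {v})) hg v
        (Submodule.mem_span_singleton_self v))
      · rintro a ⟨-, c, hc⟩ w hw
        rw [hc]
        exact Submodule.smul_mem _ _ hw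
      · rintro a ⟨-, ha⟩ w hw
        obtain ⟨c, rfl⟩ := Submodule.mem_span_singleton.1 hw
        rw [map_smul, show ρ a v = v from ha]
        exact hw
    have hv0 : v ≠ 0 := fun h => hβv (by rw [h, map_zero])
    have h3 : ∀ φ : Module.End F W, (∀ g ∈ D, φ (ρ g v) = 0) → φ = 0 := by
      intro φ hφ
      ext w
      obtain ⟨f, hf⟩ := exists_dual_forall_apply_ne_zero (K := F) (fun _ : Unit => v) fun _ => hv0
      have h4 : ∀ ψ ∈ Submodule.span F (ρ '' (D : Set Γ)), φ (ψ v) = 0 := by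
        intro ψ hψ
        induction hψ using Submodule.span_induction with
        | mem _ h => obtain ⟨g, hg, rfl⟩ := h; exact hφ g hg
        | zero => simp
        | add a b _ _ ha hb => simp [ha, hb]
        | smul c a _ ha => simp [ha]
      have := h4 _ (mem_span_of_commutant ρ D hcomm hcent hc hschur (f.smulRight w))
      simpa [hf ()] using this
    let T₁ : Subgroup Γ :=
      { carrier := {d | β * ρ d = β}
        one_mem' := by simp
        mul_mem' := fun {a b} ha hb => by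
          change β * _ = β
          rw [map_mul, ← mul_assoc, ha, hb]
        inv_mem' := fun {a} ha => by
          change β * _ = β
          conv_lhs => rw [← show β * ρ a = β from ha]
          rw [mul_assoc, ← map_mul, mul_inv_cancel, map_one, mul_one] }
    have hT₁ : ∀ g : Γ, Commute g x → Commute g σ → g ∈ 𝒩(T₁) := by
      intro g h1 h2
      have h3 : ρ g * β = β * ρ g := LinearMap.ext fun w => by
        simp only [Module.End.mul_apply, hβa, map_sub]
        rw [apply_comm (rep_comm h1.eq), tr_comm (rep_comm h2.eq)]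
      refine mem_normalizer_fintype fun d hd => ?_
      change β * _ = β
      rw [map_mul, map_mul, ← mul_assoc, ← mul_assoc, ← h3, mul_assoc (ρ g),
        show β * ρ d = β from hd, h3, mul_assoc, ← map_mul, mul_inv_cancel, map_one, mul_one]
    have h4 : ∀ u d, d ∈ D ⊓ T₁ → (u * d * u⁻¹ * d⁻¹ ∈ scal ρ → d ∈ scal ρ) →
        ρ (u * d) = ρ (d * u) → ρ d = 1 := by
      intro u d hd hf e
      obtain ⟨c, hc⟩ := hf (ker_le_scal ((comm_iff_apply_eq_one ρ u d).1
        (by rw [← map_mul, e, map_mul])))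
      have h5 : β * ρ d = β := hd.2
      rw [hc, mul_smul_comm, mul_one, ← sub_eq_zero] at h5
      nth_rw 2 [← one_smul F β] at h5
      rw [← sub_smul] at h5
      rw [hc, sub_eq_zero.1 ((smul_eq_zero.1 h5).resolve_right hβ0), one_smul]
    have h5 := eq_one_of_avg (ρ := ρ) (T := D ⊓ T₁) (σ := σ) (x := x)
      (card_ne_zero_of_isPGroup hqF (hD.to_le inf_le_left)) hr.pos
      (inf_normalizer_le_normalizer_inf ⟨hx, hT₁ x (Commute.refl x) hxσ⟩)
      (inf_normalizer_le_normalizer_inf ⟨hσD, hT₁ σ hxσ.symm (Commute.refl σ)⟩)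
      (fun j d hd => h4 _ d hd (by
        simpa using fp 1 j (Or.inl hs.not_dvd_one) d hd.1))
      (fun j j0 hj d hd => h4 _ d hd (by
        simpa using fp 0 j (Or.inr (Nat.not_dvd_of_pos_of_lt j0 hj)) d hd.1))
      (fun w hw => sub_eq_zero.1 ((hβa w).symm.trans (hw β fun d hd => hd.2)))
    have h6 : N ≤ scal ρ := by
      refine sup_le inf_le_right fun t ht => ker_le_scal (h5 t ⟨ht.1, sub_eq_zero.1 (h3 _ ?_)⟩)
      intro g hg
      rw [LinearMap.sub_apply, Module.End.mul_apply, sub_eq_zero]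
      by_cases hgN : g ∈ N
      · obtain ⟨c, hc⟩ := h2 g hgN
        rw [← hc, map_smul, show ρ t v = v from ht.2]
      · rw [h1 g hg hgN, rep_rep, h1 _ (mul_mem ht.1 hg) fun h =>
          hgN ((N.mul_mem_cancel_left (mem_sup_right ht)).1 h)]
    have := Fintype.ofFinite (D ⧸ (scal ρ).subgroupOf D)
    have hli : LinearIndependent F fun i : D ⧸ (scal ρ).subgroupOf D => ρ (i.out : D) v := by
      rw [Fintype.linearIndependent_iff]
      intro c hc i
      have h7 := congrArg (fun w => β (ρ (i.out : Γ)⁻¹ w)) hc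
      simp only [map_sum, map_smul, map_zero, rep_rep] at h7
      rw [sum_eq_single_of_mem i (mem_univ _) fun j _ hj => by
        rw [h1 _ (mul_mem (inv_mem i.out.2) j.out.2) fun h => hj (by
          rw [← i.out_eq', ← j.out_eq', eq_comm, QuotientGroup.eq]
          exact h6 h), smul_zero]] at h7
      rw [inv_mul_cancel, map_one, Module.End.one_apply] at h7
      exact (smul_eq_zero.1 h7).resolve_right hβv
    have h7 := hli.fintype_card_le_finrank
    rw [← Nat.card_eq_fintype_card, ← index_eq_card, ← relIndex, ← hdim] at h7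
    have := finrank_pos (R := F) (M := W)
    exact hN1 (by nlinarith)
  obtain ⟨c, hc⟩ := IsAlgClosed.exists_pow_nat_eq ((κ⁻¹ : Fˣ) ^ r : F) (show 0 < r * s by omega)
  have hc0 : c ≠ 0 := by
    rintro rfl
    rw [zero_pow (by omega)] at hc
    exact pow_ne_zero _ (Units.ne_zero _) hc.symm
  have hT : (c • ρ (x * σ)) ^ (r * s) = 1 := by
    rw [smul_pow, ← map_pow, hyh, map_pow, hκ, smul_pow, one_pow, hc, smul_smul, ← mul_pow]
    simp
  have hcm : commutant (c • ρ (x * σ)) = commutant (ρ (x * σ)) := by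
    ext φ
    rw [mem_commutant, mem_commutant, smul_mul_assoc, mul_smul_comm,
      (smul_right_injective _ hc0).eq_iff]
  have hrel : (c⁻¹ • c • ρ (x * σ) - 1) * ∑ t ∈ range r,
      (((κ⁻¹ : Fˣ) : F) * c⁻¹ ^ s) ^ t • (c • ρ (x * σ)) ^ (s * t) = 0 := by
    have h1 : ∀ t, (((κ⁻¹ : Fˣ) : F) * c⁻¹ ^ s) ^ t • (c • ρ (x * σ)) ^ (s * t) =
        ρ ((σ ^ s) ^ t) := by
      intro t
      rw [pow_mul, ← smul_pow, map_pow]
      congr 1
      rw [smul_pow, ← map_pow, hxσ.mul_pow, map_mul, hκ,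
        smul_mul_assoc, one_mul, smul_smul, smul_smul, show ((κ⁻¹ : Fˣ) : F) * c⁻¹ ^ s * c ^ s * κ = 1 by
        rw [mul_assoc _ _ (c ^ s), ← mul_pow, inv_mul_cancel₀ hc0]; simp, one_smul]
    rw [sum_congr rfl fun t _ => h1 t, inv_smul_smul₀ hc0]
    ext w
    have h2 : ρ σ (tr ρ (σ ^ s) r w) = tr ρ (σ ^ s) r w :=
      mem_of_pow_mem (C := vecStab ρ _) hr (hσ ▸ one_mem _) hrs
        (tr_fixed (by rw [← pow_mul, mul_comm, pow_mul, hσ, one_pow]) w)
    have h3 := hβa (tr ρ (σ ^ s) r w)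
    rw [hβ0, tr_of_fixed h2, map_smul, ← smul_sub] at h3
    change ρ (x * σ) (tr ρ (σ ^ s) r w) - tr ρ (σ ^ s) r w = 0
    rw [← rep_rep, h2]
    exact (smul_eq_zero.1 h3.symm).resolve_left hrF
  have hr1 : s * (r - 1) + s = r * s := by
    obtain ⟨r', rfl⟩ := Nat.exists_eq_add_one_of_ne_zero hr.ne_zero
    simp only [Nat.add_sub_cancel]
    ring
  have := hs.two_le
  obtain ⟨-, h | h | ⟨h1, h⟩⟩ := powIndep_of_commutant _ (r * s) (by omega) hT hdvd (hcm ▸ hle)
  · exact absurd h hN1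
  · exact absurd h (not_powIndep_rel hs.pos hr.pos _ _ hrel (by omega))
  · obtain rfl : s = 2 := by
      by_contra h2
      exact absurd h (not_powIndep_rel hs.pos hr.pos _ _ hrel (by omega))
    exact ⟨rfl, _, by omega, hdim⟩

end CfsgLib.Tur
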