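import Cfsg.Agent.Lib.Tur.Basic

/-!
# Group theoretic lemmas: subgroups that are `p`-groups modulo another one, extraction of the
layers of a Fitting tower
-/

set_option autoImplicit false

namespace CfsgLib.Tur

open Subgroup CfsgLib.FPF CfsgLib.Coprime
open scoped commutatorElement Pointwise

variable {Γ : Type*} [Group Γ] {σ : Γ} {r p : ℕ}

/-- every element of `X` has a `p`-power in `N` -/
def pm (p : ℕ) (X N : Subgroup Γ) : Prop := ∀ x ∈ X, ∃ a, x ^ p ^ a ∈ N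

theorem pm.mono {X X' N N' : Subgroup Γ} (h : pm p X N) (hX : X' ≤ X) (hN : N ≤ N') :
    pm p X' N' := fun x hx => (h x (hX hx)).imp fun _ ha => hN ha

theorem pm_of_le {X N : Subgroup Γ} (h : X ≤ N) : pm p X N := fun x hx =>
  ⟨0, by simpa using h hx⟩

theorem mem_of_pow_mem_of_coprime {N : Subgroup Γ} {x : Γ} {n : ℕ} (hc : (orderOf x).Coprime n)
    (h : x ^ n ∈ N) : x ∈ N := by
  obtain ⟨m, hm⟩ := exists_pow_eq_self_of_coprime hc.symm
  exact hm ▸ pow_mem h m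

theorem pm.mem {X N : Subgroup Γ} (h : pm p X N) {x : Γ} (hx : x ∈ X)
    (hc : (orderOf x).Coprime p) : x ∈ N := by
  obtain ⟨a, ha⟩ := h x hx
  exact mem_of_pow_mem_of_coprime (hc.pow_right a) ha

theorem coprime_orderOf {q : ℕ} (hq : q.Prime) (hp : p.Prime) (hqp : q ≠ p) {Q : Subgroup Γ}
    (hQ : IsPGroup q Q) {x : Γ} (hx : x ∈ Q) : (orderOf x).Coprime p := by
  obtain ⟨k, hk⟩ := Core.isPGroup_subgroup_iff.1 hQ x hx
  exact (((Nat.coprime_primes hq hp).2 hqp).pow_left k).coprime_dvd_left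
    (orderOf_dvd_of_pow_eq_one hk)

theorem pm.le {X N Q : Subgroup Γ} (h : pm p X N) {q : ℕ} (hq : q.Prime) (hp : p.Prime)
    (hqp : q ≠ p) (hQ : IsPGroup q Q) (hQX : Q ≤ X) : Q ≤ N := fun _ hx =>
  h.mem (hQX hx) (coprime_orderOf hq hp hqp hQ hx)

theorem pm_of_coprime [Finite Γ] (hp : p.Prime) {X N : Subgroup Γ}
    (h : ∀ x ∈ X, (orderOf x).Coprime p → x ∈ N) : pm p X N := by
  intro x hx
  obtain ⟨a, m, hm, e⟩ := Nat.exists_eq_pow_mul_and_not_dvd (orderOf_pos x).ne' p hp.ne_one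
  refine ⟨a, h _ (pow_mem hx _) ?_⟩
  refine (((Nat.Prime.coprime_iff_not_dvd hp).2 hm).symm).coprime_dvd_left
    (orderOf_dvd_of_pow_eq_one ?_)
  rw [← pow_mul, ← e, pow_orderOf_eq_one]

theorem pm.map {Γ' : Type*} [Group Γ'] (f : Γ →* Γ') {X : Subgroup Γ} {N : Subgroup Γ'}
    (h : pm p X (N.comap f)) : pm p (X.map f) N := by
  rintro _ ⟨x, hx, rfl⟩
  exact (h x hx).imp fun a ha => by rwa [← map_pow]

theorem pm.nilRes_le [Finite Γ] (hp : p.Prime) {L K : Subgroup Γ} (h : pm p L K) :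
    nilRes L ≤ K := by
  have := Fact.mk hp
  have h1 : IsPGroup p (L ⧸ (K.subgroupOf L).normalCore) := by
    intro g
    obtain ⟨x, rfl⟩ := QuotientGroup.mk_surjective g
    obtain ⟨a, ha⟩ := pm_of_coprime hp (X := ⊤) (N := (K.subgroupOf L).normalCore)
      (fun y _ hy b => mem_subgroupOf.2 (h.mem (b * y * b⁻¹).2 (by
        rwa [orderOf_coe, ← MulAut.conj_apply, MulEquiv.orderOf_eq]))) x (mem_top x)
    exact ⟨a, by rw [← QuotientGroup.mk_pow, QuotientGroup.eq_one_iff]; exact ha⟩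
  have h2 : nilRes (⊤ : Subgroup L) ≤ (QuotientGroup.mk' (K.subgroupOf L).normalCore).ker :=
    (nilRes_le_ker_iff _).2 (h1.to_subgroup _).isNilpotent
  rw [QuotientGroup.ker_mk'] at h2
  have h3 := map_mono (f := L.subtype) (h2.trans (normalCore_le _))
  rw [map_nilRes, ← MonoidHom.range_eq_map, subtype_range, subgroupOf_map_subtype] at h3
  exact h3.trans inf_le_left

theorem mul_pow_mem {N : Subgroup Γ} {n u : Γ} (hn : n ∈ N) (hu : u ∈ 𝒩(N)) (m : ℕ) :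
    (n * u) ^ m * (u ^ m)⁻¹ ∈ N := by
  induction m with
  | zero => simp [one_mem]
  | succ m ih =>
    rw [show (n * u) ^ (m + 1) * (u ^ (m + 1))⁻¹ = (n * u) ^ m * (u ^ m)⁻¹ *
      (u ^ m * n * (u ^ m)⁻¹) by rw [pow_succ, pow_succ]; group]
    exact mul_mem ih ((mem_normalizer_iff.1 (pow_mem hu m) n).1 hn)

theorem pm.sup {K X N : Subgroup Γ} (hK : pm p K N) (hX : pm p X N) (hXK : X ≤ 𝒩(K))
    (hKN : K ≤ 𝒩(N)) : pm p (K ⊔ X) N := by
  intro y hy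
  obtain ⟨k, hk, x, hx, rfl⟩ := (Core.mem_sup_of_le_normalizer_left hXK).1 hy
  obtain ⟨a, ha⟩ := hX x hx
  have h1 := mul_pow_mem hk (hXK hx) (p ^ a)
  obtain ⟨b, hb⟩ := hK _ h1
  have h2 := mul_pow_mem ((mem_normalizer_iff.1 (hKN h1) _).1 ha) (hKN h1) (p ^ b)
  refine ⟨a + b, ?_⟩
  rw [inv_mul_cancel_right, inv_mul_cancel_right, N.mul_mem_cancel_right (inv_mem hb)] at h2
  rwa [pow_add, pow_mul]

theorem fitSer_subgroupOf [Finite Γ] {X D : Subgroup Γ} (h : X ≤ D) (j : ℕ) :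
    fitSer j (X.subgroupOf D) = (fitSer j X).subgroupOf D := by
  conv_rhs => rw [← map_subgroupOf_eq_of_le h, ← map_fitSer, subgroupOf,
    comap_map_eq_self_of_injective D.subtype_injective]

/-- the image modulo `K` -/
def qm (K X : Subgroup Γ) : Subgroup (𝒩(K) ⧸ K.subgroupOf 𝒩(K)) :=
  (X.subgroupOf 𝒩(K)).map (QuotientGroup.mk' _)

theorem qm_le_iff {K X Y : Subgroup Γ} (hX : X ≤ 𝒩(K)) (hY : Y ≤ 𝒩(K)) :
    qm K X ≤ qm K Y ↔ X ≤ K ⊔ Y := by
  rw [qm, qm, map_le_iff_le_comap, comap_map_eq, QuotientGroup.ker_mk', sup_comm,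
    ← subgroupOf_sup le_normalizer hY, ← map_le_map_iff_of_injective (subtype_injective _),
    map_subgroupOf_eq_of_le hX, map_subgroupOf_eq_of_le (sup_le le_normalizer hY)]

theorem fitSer_qm [Finite Γ] {K X : Subgroup Γ} (hX : X ≤ 𝒩(K)) (j : ℕ) :
    fitSer j (qm K X) = qm K (fitSer j X) := by
  rw [qm, qm, ← map_fitSer, fitSer_subgroupOf hX]

theorem fitSer_le_sup [Finite Γ] {G H K : Subgroup Γ} (hG : G ≤ 𝒩(K)) (hH : H ≤ 𝒩(K))
    (h : G ≤ K ⊔ H) (j : ℕ) : fitSer j G ≤ K ⊔ fitSer j H := by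
  rw [← qm_le_iff ((fitSer_le j G).trans hG) ((fitSer_le j H).trans hH), ← fitSer_qm hG,
    ← fitSer_qm hH]
  exact fitSer_mono j ((qm_le_iff hG hH).2 h)

theorem le_normalizer_nilRes_sup [Finite Γ] {L Q : Subgroup Γ} {q : ℕ} (hq : q.Prime)
    (hQL : Q ≤ L) (hQ : IsPGroup q Q) (hi : ¬ q ∣ Q.relIndex L) : L ≤ 𝒩(nilRes L ⊔ Q) := by
  have hL : L ≤ 𝒩(nilRes L) := le_normalizer.trans (normalizer_le_normalizer_nilRes L)
  have h1 : Group.IsNilpotent (qm (nilRes L) L) := by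
    rw [← nilRes_eq_bot_iff, show nilRes (qm (nilRes L) L) = qm (nilRes L) (nilRes L) from
      fitSer_qm hL 1, qm, Subgroup.map_eq_bot_iff, QuotientGroup.ker_mk']
  obtain ⟨O, -, -, -, -, h2, -⟩ := exists_compl_of_isNilpotent h1 hq (U := qm (nilRes L) Q)
    (map_mono (comap_mono hQL)) (hQ.comap_subtype.map _)
    (not_dvd_relIndex_map _ (comap_mono hQL) ((relIndex_subgroupOf (H := Q) hL).symm ▸ hi))
  refine Core.le_normalizer_of_commutator_le (Core.commutator_sup_left_le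
    (le_sup_left.trans le_normalizer) (le_sup_right.trans le_normalizer)
    ((commutator_le_of_le_normalizer hL).trans le_sup_left) ?_)
  rw [← qm_le_iff (Core.commutator_le_of_le (hQL.trans hL) hL) (hQL.trans hL), qm,
    ← Core.commutator_subgroupOf (hQL.trans hL) hL, map_commutator]
  exact commutator_le_of_le_normalizer (le_normalizer.trans h2)

theorem le_nilRes_sup_normalizer [Finite Γ] {G L Q : Subgroup Γ} {q : ℕ} (hq : q.Prime)
    (hLG : L ≤ G) (hG : G ≤ 𝒩(L)) (hQL : Q ≤ L) (hQ : IsPGroup q Q) (hi : ¬ q ∣ Q.relIndex L) :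
    G ≤ nilRes L ⊔ (G ⊓ 𝒩(Q)) := by
  have := Fact.mk hq
  intro g hg
  obtain ⟨l, hl, e⟩ := exists_conj_smul_eq_sylow hQL hQ hi
    (conj_smul_le_of_mem_normalizer (hG hg) hQL) (isPGroup_conj_smul g hQ)
    (by rwa [relIndex_conj_smul (hG hg)])
  have hM := le_normalizer_nilRes_sup hq hQL hQ hi hl
  have hi' : ¬ q ∣ Q.relIndex (nilRes L ⊔ Q) := fun h =>
    hi (h.trans (Dvd.intro _ (relIndex_mul_relIndex _ _ _ le_sup_right
      (sup_le (nilRes_le L) hQL))))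
  obtain ⟨m, hm, e'⟩ := exists_conj_smul_eq_sylow le_sup_right hQ hi'
    (conj_smul_le_of_mem_normalizer hM le_sup_right) (isPGroup_conj_smul l hQ)
    (by rwa [relIndex_conj_smul hM])
  have h1 : m⁻¹ * g ∈ 𝒩(Q) := by
    rw [Core.mem_normalizer_iff_conj_smul_eq, map_mul, mul_smul, ← e, ← e', map_inv, inv_smul_smul]
  rw [← mul_inv_cancel_left m g]
  refine mul_mem ((sup_le_sup_left (le_inf (hQL.trans hLG) le_normalizer) _) hm)
    (mem_sup_right ⟨G.mul_mem (G.inv_mem ((sup_le (nilRes_le L) hQL).trans hLG hm)) hg, h1⟩)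

/-- extraction of a layer -/
theorem extract [Finite Γ] (hr : r.Prime) (hσ : σ ^ r = 1) (hp : p.Prime) {N : Subgroup Γ} (j : ℕ)
    (G : Subgroup Γ) : Group.IsSolvable G → σ ∈ 𝒩(G) → ¬ r ∣ Nat.card G → G ≤ 𝒩(N) →
      ¬ pm p (fitSer j G) N → ∃ G₀ ≤ G, σ ∈ 𝒩(G₀) ∧ ∃ (q : ℕ) (Q : Subgroup Γ), q.Prime ∧ q ≠ p ∧
        Q ≤ fitSer j G₀ ∧ IsPGroup q Q ∧ ¬ q ∣ Q.relIndex (fitSer j G₀) ∧ G₀ ≤ 𝒩(Q) ∧ σ ∈ 𝒩(Q) ∧
        ¬ Q ≤ N := by
  induction G using WellFoundedLT.induction with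
  | _ G ih =>
  intro hs hσG hc hN h
  have ih' := fun H (hH : H < G) h1 h2 => (ih H hH (Core.isSolvable_of_le hH.le) h1
    (fun h => hc (h.trans (card_dvd_of_le hH.le))) (hH.le.trans hN) h2).imp
      fun G₀ h3 => And.intro (h3.1.trans hH.le) h3.2
  set L := fitSer j G
  have hLG : L ≤ G := fitSer_le j G
  have hGL : 𝒩(G) ≤ 𝒩(L) := normalizer_le_normalizer_fitSer j G
  by_cases h1 : pm p (nilRes L) N
  swap
  · refine ih' (nilRes G) ((nilRes_le_lcs G 1).trans_lt (Core.commutator_self_lt_of_isSolvable (N := G) ?_))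
      (normalizer_le_normalizer_nilRes G hσG) (by rwa [← fitSer_succ', fitSer_succ])
    rintro rfl
    exact h (pm_of_le (hLG.trans bot_le))
  have hcop := cop_of_not_dvd hr hσ fun h => hc (h.trans (card_dvd_of_le hLG))
  obtain ⟨q, Q, hq, hqp, hQL, hQ, hi, hσQ, hQN⟩ : ∃ (q : ℕ) (Q : Subgroup Γ), q.Prime ∧ q ≠ p ∧
      Q ≤ L ∧ IsPGroup q Q ∧ ¬ q ∣ Q.relIndex L ∧ σ ∈ 𝒩(Q) ∧ ¬ Q ≤ N := by
    by_contra hcon
    push Not at hcon
    have := Fact.mk hp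
    obtain ⟨P, hPL, hP, hPi, -⟩ := exists_invariant_sylow' p (zpowers_le.2 (hGL hσG)) hcop
      (Or.inl (isSolvable_zpowers σ))
    have h2 : (L ⊓ N) ⊔ P = L := by
      refine eq_of_forall_sylow_le (sup_le inf_le_left hPL) fun q hq _ => ?_
      by_cases hqp : q = p
      · exact ⟨P, le_sup_right, hqp ▸ hPi⟩
      · have := Fact.mk hq
        obtain ⟨R, hRL, hR, hRi, hAR⟩ := exists_invariant_sylow' q (zpowers_le.2 (hGL hσG)) hcop
          (Or.inl (isSolvable_zpowers σ))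
        exact ⟨R, (le_inf hRL (hcon q R hq hqp hRL hR hRi (zpowers_le.1 hAR))).trans le_sup_left,
          hRi⟩
    refine h (h2 ▸ (pm_of_le inf_le_right).sup (fun x hx => ?_) ?_ (inf_le_right.trans le_normalizer))
    · exact (Core.isPGroup_subgroup_iff.1 hP x hx).imp fun a ha => by rw [ha]; exact one_mem _
    · exact (le_inf (hPL.trans le_normalizer) (hPL.trans (hLG.trans hN))).trans
        inf_normalizer_le_normalizer_inf
  by_cases hG : G ≤ 𝒩(Q)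
  · exact ⟨G, le_rfl, hσG, q, Q, hq, hqp, hQL, hQ, hi, hG, hσQ, hQN⟩
  have hGK : G ≤ 𝒩(nilRes L) := le_normalizer.trans (hGL.trans (normalizer_le_normalizer_nilRes L))
  refine ih' (G ⊓ 𝒩(Q)) (inf_lt_left.2 hG)
    (inf_normalizer_le_normalizer_inf ⟨hσG, le_normalizer hσQ⟩) fun h2 => h ?_
  exact (h1.sup h2 ((fitSer_le _ _).trans (inf_le_left.trans hGK))
    ((nilRes_le L).trans (hLG.trans hN))).mono (fitSer_le_sup hGK (inf_le_left.trans hGK)
      (le_nilRes_sup_normalizer hq hLG (le_normalizer.trans hGL) hQL hQ hi) j) le_rfl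

/-- a normal Sylow subgroup of the nilpotent residual is moved by elements of coprime order -/
theorem not_pm_centralizer [Finite Γ] {H Q : Subgroup Γ} {q : ℕ} (hq : q.Prime) (hH : H ≤ 𝒩(Q))
    (hQL : Q ≤ nilRes H) (hQ : IsPGroup q Q) (hi : ¬ q ∣ Q.relIndex (nilRes H)) (hne : Q ≠ ⊥) :
    ¬ pm q H 𝒞(Q) := by
  intro h
  have := Fact.mk hq
  set L := nilRes H
  have hL : L ≤ 𝒞(Q) := h.nilRes_le hq
  have hHL : H ≤ 𝒩(L) := le_normalizer.trans (normalizer_le_normalizer_nilRes H)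
  have hZ : Q.subgroupOf L ≤ center L := fun x hx =>
    mem_center_iff.2 fun y => Subtype.ext (hL y.2 x hx).symm
  set n := (center L).index * Q.relIndex L
  have hn : ¬ q ∣ n := fun h' => (hq.dvd_mul.1 h').elim
    (fun h => hi (h.trans (index_dvd_of_le hZ))) hi
  have h1 : ∀ x ∈ L, ∀ y ∈ L, (x * y) ^ n = x ^ n * y ^ n := by
    intro x hx y hy
    have e := map_mul (MonoidHom.transferCenterPow L) ⟨x, hx⟩ ⟨y, hy⟩
    have e' := congrArg (fun z : center L => ((z ^ Q.relIndex L : center L) : L).1) e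
    rw [Commute.mul_pow (Subtype.ext (mem_center_iff.1 (Subtype.prop _) _))] at e'
    simpa [n, pow_mul] using e'
  have h2 : ∀ x ∈ L, x ^ n ∈ Q := by
    intro x hx
    have : (Q.subgroupOf L).Normal := ⟨fun x hx g => by
      rwa [mem_center_iff.1 (hZ hx) g, mul_inv_cancel_right]⟩
    have := (Q.subgroupOf L).pow_index_mem (⟨x, hx⟩ ^ (center L).index)
    simpa [n, pow_mul, mem_subgroupOf, relIndex] using this
  have h3 : ∀ y ∈ ⁅L, H⁆, y ∈ L ∧ y ^ n ∈ ⁅Q, H⁆ := by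
    intro y hy
    induction hy using closure_induction with
    | mem y hy =>
      obtain ⟨l, hl, g, hg, rfl⟩ := hy
      have hl' : g * l⁻¹ * g⁻¹ ∈ L := (mem_normalizer_iff.1 (hHL hg) _).1 (inv_mem hl)
      rw [show ⁅l, g⁆ = l * (g * l⁻¹ * g⁻¹) by group]
      refine ⟨mul_mem hl hl', ?_⟩
      rw [h1 _ hl _ hl', conj_pow, show l ^ n * (g * l⁻¹ ^ n * g⁻¹) = ⁅l ^ n, g⁆ by group]
      exact commutator_mem_commutator (h2 l hl) hg
    | one => simp [one_mem]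
    | mul x y _ _ hx hy => exact ⟨mul_mem hx.1 hy.1, h1 _ hx.1 _ hy.1 ▸ mul_mem hx.2 hy.2⟩
    | inv x _ hx => exact ⟨inv_mem hx.1, inv_pow x n ▸ inv_mem hx.2⟩
  have h4 : Q ≤ ⁅Q, H⁆ := by
    intro a ha
    obtain ⟨k, hk⟩ := Core.isPGroup_subgroup_iff.1 hQ a ha
    exact mem_of_pow_mem_of_coprime ((((Nat.Prime.coprime_iff_not_dvd hq).2 hn).pow_left
      k).coprime_dvd_left (orderOf_dvd_of_pow_eq_one hk)) (h3 a ((commutator_nilRes H).ge (hQL ha))).2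
  obtain ⟨P, -, hPH, hP, hPi⟩ := exists_le_sylow_relIndex (p := q) (bot_le (a := H))
    IsPGroup.of_bot
  have h5 : (H ⊓ 𝒞(Q)) ⊔ P = H := by
    refine eq_of_forall_sylow_le (sup_le inf_le_left hPH) fun s hs _ => ?_
    by_cases hsq : s = q
    · exact ⟨P, le_sup_right, hsq ▸ hPi⟩
    · have := Fact.mk hs
      obtain ⟨R, -, hRH, hR, hRi⟩ := exists_le_sylow_relIndex (p := s) (bot_le (a := H))
        IsPGroup.of_bot
      exact ⟨R, (le_inf hRH (h.le hs hq hsq hR hRH)).trans le_sup_left, hRi⟩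
  have hUP : ⁅Q, P⁆ ≤ Q := commutator_le_of_le_normalizer (hPH.trans hH)
  have h6 : ⁅Q, (H ⊓ 𝒞(Q)) ⊔ P⁆ ≤ ⁅Q, P⁆ := by
    refine Core.commutator_sup_right_le ?_ (normalizer_commutator_ge_right Q P) ?_ le_rfl
    · exact (inf_le_right.trans (centralizer_le (SetLike.coe_subset_coe.2 hUP))).trans
        (centralizer_le_normalizer _)
    · rw [commutator_comm, commutator_eq_bot_iff_le_centralizer.2 inf_le_right]
      exact bot_le
  rw [h5] at h6
  exact (commutator_lt_of_isPGroup hQ hP (hPH.trans hH) hne).not_ge (h4.trans h6)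

theorem le_nilRes_of_le_commutator {D S L : Subgroup Γ} (hD : D ≤ L) (hS : S ≤ L)
    (h : D ≤ ⁅D, S⁆) : D ≤ nilRes L := by
  refine le_iInf fun k => ?_
  induction k with
  | zero => exact hD
  | succ k ih => exact h.trans (commutator_mono ih hS)

theorem comm_of_irred {V : Type*} [CommGroup V] (s : V →* V)
    (hirr : ∀ U : Subgroup V, (∀ u ∈ U, s u ∈ U) → U = ⊥ ∨ U = ⊤) {α β : V →* V}
    (hα : ∀ v, α (s v) = s (α v)) (hβ : ∀ v, β (s v) = s (β v)) (v : V) :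
    α (β v) = β (α v) := by
  let B : (V →* V) → Prop := fun φ =>
    ∀ γ : V →* V, (∀ v, γ (s v) = s (γ v)) → ∀ v, γ (φ v) = φ (γ v)
  let U : Subgroup V :=
    { carrier := {w | ∃ φ, B φ ∧ φ v = w}
      one_mem' := ⟨1, fun γ _ v => by simp, rfl⟩
      mul_mem' := by
        rintro _ _ ⟨φ, hφ, rfl⟩ ⟨ψ, hψ, rfl⟩
        exact ⟨φ * ψ, fun γ hγ v => by simp [hφ γ hγ, hψ γ hγ], rfl⟩
      inv_mem' := by
        rintro _ ⟨φ, hφ, rfl⟩
        exact ⟨φ⁻¹, fun γ hγ v => by simp [hφ γ hγ], rfl⟩ }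
  rcases hirr U (by
    rintro _ ⟨φ, hφ, rfl⟩
    exact ⟨s.comp φ, fun γ hγ v => by simp [hγ, hφ γ hγ], rfl⟩) with h | h
  · have : v ∈ U := ⟨MonoidHom.id V, fun _ _ _ => rfl, rfl⟩
    rw [h, mem_bot] at this
    simp [this]
  · obtain ⟨φ, hφ, e⟩ : β v ∈ U := h ▸ mem_top _
    obtain ⟨ψ, hψ, e'⟩ : α v ∈ U := h ▸ mem_top _
    rw [← e, ← e', hφ α hα, hψ β hβ, ← e, ← e']
    exact (hφ ψ (fun w => (hψ s (fun _ => rfl) w).symm) v).symm

theorem comm_mod_of_irred [Finite Γ] {D Z H : Subgroup Γ} (hZD : Z ≤ D) (hDZ : ⁅D, D⁆ ≤ Z)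
    (hσD : σ ∈ 𝒩(D)) (hσZ : σ ∈ 𝒩(Z)) (hHD : H ≤ 𝒩(D)) (hHZ : H ≤ 𝒩(Z)) (hH : H ≤ 𝒞(zpowers σ))
    (hirr : ∀ U, Z ≤ U → U ≤ D → σ ∈ 𝒩(U) → U = Z ∨ U = D) : ⁅⁅H, H⁆, D⁆ ≤ Z := by
  have hN : (Z.subgroupOf D).Normal :=
    (normal_subgroupOf_iff_le_normalizer hZD).2 (le_normalizer_of_commutator_le hZD hDZ)
  let : CommGroup (D ⧸ Z.subgroupOf D) :=
    { mul_comm := by
        rintro ⟨a⟩ ⟨b⟩
        refine QuotientGroup.eq.2 (hDZ ?_)
        convert commutator_mem_commutator (inv_mem b.2) (inv_mem a.2) using 1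
        simp [commutatorElement_def, mul_assoc] }
  let c : ∀ g : Γ, g ∈ 𝒩(D) → g ∈ 𝒩(Z) → (D ⧸ Z.subgroupOf D) →* (D ⧸ Z.subgroupOf D) :=
    fun g h1 h2 => QuotientGroup.map _ _ (normalizerMonoidHom D ⟨g, h1⟩).toMonoidHom
      fun z hz => (mem_normalizer_iff.1 h2 _).1 hz
  have hc : ∀ g h1 h2 (a : D), c g h1 h2 a = ((⟨g * a * g⁻¹, (mem_normalizer_iff.1 h1 _).1 a.2⟩ : D) :
      D ⧸ Z.subgroupOf D) := fun _ _ _ _ => rfl
  have h1 : ∀ g (hg : g ∈ H) v,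
      c g (hHD hg) (hHZ hg) (c σ hσD hσZ v) = c σ hσD hσZ (c g (hHD hg) (hHZ hg) v) := by
    intro g hg v
    obtain ⟨a, rfl⟩ := QuotientGroup.mk_surjective v
    simp only [hc]
    congr 2
    have := mem_cz.1 (hH hg)
    calc g * (σ * a * σ⁻¹) * g⁻¹ = (g * σ) * a * (g * σ)⁻¹ := by group
      _ = _ := by rw [← this]; group
  have h2 : ∀ U : Subgroup (D ⧸ Z.subgroupOf D), (∀ u ∈ U, c σ hσD hσZ u ∈ U) → U = ⊥ ∨ U = ⊤ := by
    intro U hU
    rcases hirr ((U.comap (QuotientGroup.mk' _)).map D.subtype)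
      (fun z hz => ⟨⟨z, hZD hz⟩, by
        rw [SetLike.mem_coe, mem_comap, QuotientGroup.mk'_apply,
          (QuotientGroup.eq_one_iff _).2 (mem_subgroupOf.2 hz)]
        exact one_mem _, rfl⟩) (map_subtype_le _) (Core.mem_normalizer_of_forall_conj_mem (by
        rintro _ ⟨a, ha, rfl⟩
        exact ⟨_, hU _ ha, rfl⟩)) with h | h
    · refine Or.inl (eq_bot_iff.2 ?_)
      rintro ⟨a⟩ ha
      exact (QuotientGroup.eq_one_iff a).2 (mem_subgroupOf.2 (h ▸ ⟨a, ha, rfl⟩))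
    · refine Or.inr (eq_top_iff.2 ?_)
      rintro ⟨a⟩ -
      obtain ⟨b, hb, e⟩ := h.ge a.2
      rwa [Subtype.ext e] at hb
  refine (Core.le_commutatorStabilizer_iff.1 (commutator_le.2 fun g hg g' hg' =>
    ⟨hHZ (Core.commutator_le_of_le le_rfl le_rfl (commutator_mem_commutator hg hg')),
      fun d hd => ?_⟩)).2
  have hd' : (g' * g)⁻¹ * d * (g' * g) ∈ D :=
    (mem_normalizer_iff''.1 (hHD (mul_mem hg' hg)) d).1 hd
  have h3 := comm_of_irred _ h2 (h1 g hg) (h1 g' hg') ((⟨_, hd'⟩ : D) : D ⧸ _)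
  simp only [hc] at h3
  have h4 := mem_subgroupOf.1 (QuotientGroup.eq.1 h3.symm)
  have h5 := (mem_normalizer_iff.1 (le_normalizer_of_commutator_le hZD hDZ hd) _).1 h4
  convert h5 using 1
  simp only [commutatorElement_def, coe_mul, coe_inv]
  group

theorem irred_of_index [Finite Γ] (hr : r.Prime) (hr2 : r ≠ 2) (hσ : orderOf σ = r) {q N : ℕ}
    (hq : q.Prime) (hqr : q ≠ r) {D Z : Subgroup Γ} (hD : IsPGroup q D) (hZD : Z ≤ D)
    (hσD : σ ∈ 𝒩(D)) (hσZ : σ ∈ 𝒩(Z)) (hC : ∀ g ∈ D, σ * g = g * σ → g ∈ Z) (hN : N + 1 = 2 * r)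
    (hi : N ^ 2 = Z.relIndex D) (U : Subgroup Γ) (hZU : Z ≤ U) (hUD : U ≤ D) (hU : σ ∈ 𝒩(U)) :
    U = Z ∨ U = D := by
  have := Fact.mk hq
  have hcop : r.Coprime (Nat.card Z) :=
    coprime_card_of_isPGroup (hD.to_le hZD) ((Nat.coprime_primes hr hq).2 hqr.symm)
  have h1 := dvd_relIndex_sub_one hZU hr hσ hU hσZ hcop fun g hg => hC g (hUD hg)
  have h2 := dvd_relIndex_sub_one hZD hr hσ hσD hσZ hcop hC
  have e := relIndex_mul_relIndex Z U D hZU hUD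
  obtain ⟨m, hm⟩ := hD.exists_card_eq
  have hd : Z.relIndex D ∣ q ^ m := hm ▸ relIndex_dvd_card _ _
  obtain ⟨a, -, ha⟩ := (Nat.dvd_prime_pow hq).1 ((Dvd.intro _ e).trans hd)
  obtain ⟨b, -, hb⟩ := (Nat.dvd_prime_pow hq).1 ((Dvd.intro_left _ e).trans hd)
  obtain ⟨n, -, hn⟩ := (Nat.dvd_prime_pow hq).1 ((dvd_pow_self N two_ne_zero).trans (hi ▸ hd))
  rw [← e, ha, hb] at h2
  rw [← hi, ha, hb, hn, ← pow_add, ← pow_mul] at e
  have e2 := Nat.pow_right_injective hq.two_le e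
  rw [ha] at h1
  have hpa := Nat.one_le_pow a q hq.pos
  have hpb := Nat.one_le_pow b q hq.pos
  have h3 : r ∣ q ^ b - 1 := by
    have h4 := Nat.dvd_sub h2 (h1.mul_right (q ^ b))
    rwa [Nat.sub_mul, one_mul, show q ^ a * q ^ b - 1 - (q ^ a * q ^ b - q ^ b) = q ^ b - 1 by
      have := Nat.le_mul_of_pos_left (q ^ b) hpa
      omega] at h4
  have key : ∀ c, c ≤ n → r ∣ q ^ c - 1 → c = 0 := by
    intro c hc h
    by_contra c0
    have h4 := Nat.one_lt_pow c0 hq.one_lt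
    have h5 := Nat.le_of_dvd (by omega) h
    obtain ⟨t, ht⟩ := pow_dvd_pow q hc
    rw [← hn] at ht
    obtain rfl : t = 1 := by
      rcases t with _ | _ | t
      · have := hr.two_le
        omega
      · rfl
      · have : q ^ c * 2 ≤ q ^ c * (t + 1 + 1) := Nat.mul_le_mul_left _ (by omega)
        omega
    rw [mul_one] at ht
    rw [← ht, show N - 1 = 2 * r - 2 by omega] at h
    have h6 := Nat.dvd_sub (Dvd.intro_left 2 rfl) h
    rw [show 2 * r - (2 * r - 2) = 2 by have := hr.two_le; omega] at h6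
    exact hr2 ((Nat.prime_dvd_prime_iff_eq hr Nat.prime_two).1 h6)
  rcases le_total a n with h | h
  · left
    rw [key a h h1, pow_zero, relIndex_eq_one] at ha
    exact le_antisymm ha hZU
  · right
    rw [key b (by omega) h3, pow_zero, relIndex_eq_one] at hb
    exact le_antisymm hUD hb

end CfsgLib.Tur
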