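import Cfsg.Agent.Lib.Tur.Avg
import Cfsg.Agent.Lib.Tur.Grp

/-!
# Fixed point free three step towers; the kernels of the irreducible constituents
-/

set_option autoImplicit false

namespace CfsgLib.Tur

open Subgroup Module CfsgLib.HH CfsgLib.FPF CfsgLib.Coprime
open scoped commutatorElement

variable {F : Type*} [Field F] {Γ : Type*} [Group Γ] {W : Type*} [AddCommGroup W] [Module F W]
variable {ρ : Representation F Γ W} {σ : Γ} {r : ℕ} [Finite Γ] [FiniteDimensional F W]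

omit [Finite Γ] [FiniteDimensional F W] in
theorem comm_on {O : Subgroup Γ} {a b : Γ} (h : ⁅b⁻¹, a⁻¹⁆ ∈ O) {w : W} (hw : w ∈ fixSp ρ O) :
    ρ a (ρ b w) = ρ b (ρ a w) := by
  conv_lhs => rw [← hw _ h]
  simp only [rep_rep]
  congr 2
  group

theorem three_step_ker [IsAlgClosed F] (hr : r.Prime) (hσ : σ ^ r = 1) {q s : ℕ} (hq : q.Prime)
    (hs : s.Prime) (hsq : s ≠ q) (hqr : q ≠ r) (hsr : s ≠ r) (hqF : (q : F) ≠ 0)
    {Q T : Subgroup Γ} (hQ : IsPGroup q Q) (hT : IsPGroup s T) (hσQ : σ ∈ 𝒩(Q)) (hσT : σ ∈ 𝒩(T))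
    (hTQ : T ≤ 𝒩(Q)) (hQT : ⁅Q, T⁆ = Q) (hZ : ⁅⁅Q, Q⁆, T⁆ ≤ ρ.ker)
    (hfix : ∀ v, ρ σ v = v → v = 0) : ⁅Q, zpowers σ⁆ ≤ ρ.ker := by
  have := Fact.mk hq
  have hZQ : ⁅Q, Q⁆ ≤ Q := Core.commutator_le_of_le le_rfl le_rfl
  have h1 : ⁅⁅Q, Q⁆, Q⁆ ≤ ρ.ker := by
    have := Core.three_subgroups (A := T) (B := Q) (C := ⁅Q, Q⁆) (N := ρ.ker)
      ((commutator_mono (Core.commutator_le_of_le le_rfl hZQ |> fun h => by
        rw [commutator_comm]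
        exact commutator_le_of_le_normalizer (le_normalizer.trans
          (normalizer_le_normalizer_commutator_self Q))) le_rfl).trans hZ)
      ((commutator_mono hZ le_rfl).trans (commutator_le_left _ _))
    rwa [commutator_comm T, hQT, commutator_comm] at this
  have c1 : ∀ {B : Subgroup Γ}, ⁅⁅Q, Q⁆, B⁆ ≤ ρ.ker → ∀ z ∈ ⁅Q, Q⁆, ∀ g ∈ B,
      ρ z * ρ g = ρ g * ρ z := fun h z hz g hg =>
    (comm_iff_apply_eq_one ρ z g).2 (h (commutator_mem_commutator hz hg))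
  intro e he
  by_contra hne
  have heQ : e ∈ Q := commutator_le_of_le_normalizer (zpowers_le.2 hσQ) he
  obtain ⟨k, hk⟩ := Core.isPGroup_subgroup_iff.1 hQ e heQ
  obtain ⟨χ, hχ, hχe⟩ := exists_wt_not_mem_kerOn ρ (fun a ha b hb => c1 h1 a ha b (hZQ hb))
    (fun z hz => c1 h1 z hz e heQ) (m := q ^ k) (by exact_mod_cast pow_ne_zero k hqF)
    (by rw [← map_pow, hk, map_one]) hne
  refine hχe (three_step ρ hs hr hsq hqr.symm hsr.symm hqF hQ hT hσ hσQ hσT hTQ hQT le_rfl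
    (le_stab_wt (c1 h1) χ) (le_stab_wt (c1 hZ) χ) ?_ (fun v _ => hfix v) he)
  by_contra hc
  refine hχ (wt_eq_bot_of_free ρ (B := zpowers σ)
    (zpowers_le.2 (normalizer_le_normalizer_commutator_self Q hσQ)) χ
    (eq_bot_iff.2 fun g hg => ?_) fun v hv => hfix v (hv σ (mem_zpowers σ)))
  by_contra g1
  exact hc (mem_of_pow_mem_of_prime hr hσ hg.1 g1 hg.2)

theorem three_step_comm [IsAlgClosed F] (hr : r.Prime) (hσ : σ ^ r = 1) {q s : ℕ} (hq : q.Prime)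
    (hs : s.Prime) (hsq : s ≠ q) (hqr : q ≠ r) (hsr : s ≠ r) (hqF : (q : F) ≠ 0)
    {Q T : Subgroup Γ} (hQ : IsPGroup q Q) (hT : IsPGroup s T) (hσQ : σ ∈ 𝒩(Q)) (hσT : σ ∈ 𝒩(T))
    (hTQ : T ≤ 𝒩(Q)) (hfix : ∀ v, ρ σ v = v → v = 0) : ⁅Q, ⁅T, zpowers σ⁆⁆ ≤ ρ.ker := by
  have := Fact.mk hq
  have := Fact.mk hs
  set T₁ := ⁅T, zpowers σ⁆
  have hT₁ : T₁ ≤ T := commutator_le_of_le_normalizer (zpowers_le.2 hσT)
  have hσ₁ : σ ∈ 𝒩(T₁) := normalizer_commutator_ge_right _ _ (mem_zpowers σ)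
  by_contra hne
  obtain ⟨D, ⟨hDQ, hσD, hTD, hD⟩, hmin⟩ := exists_minimal_of_wellFoundedLT
    (fun D : Subgroup Γ => D ≤ Q ∧ σ ∈ 𝒩(D) ∧ T₁ ≤ 𝒩(D) ∧ ¬ ⁅D, T₁⁆ ≤ ρ.ker)
    ⟨Q, le_rfl, hσQ, hT₁.trans hTQ, hne⟩
  have hcop : (Nat.card T₁).Coprime (Nat.card D) := coprime_card_of_isPGroup (hQ.to_le hDQ)
    (Core.isPGroup_coprime_card (hT.to_le hT₁) ((Nat.coprime_primes hq hs).2 hsq.symm))
  have h1 : ⁅D, T₁⁆ = D := le_antisymm (commutator_le_of_le_normalizer hTD)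
    (hmin ⟨(commutator_le_of_le_normalizer hTD).trans hDQ,
      Core.normalizer_inf_le_normalizer_commutator _ _ ⟨hσD, hσ₁⟩,
      normalizer_commutator_ge_right _ _, by rwa [commutator_commutator_eq hTD hcop]⟩
      (commutator_le_of_le_normalizer hTD))
  have h2 : ⁅⁅D, D⁆, T₁⁆ ≤ ρ.ker := by
    by_contra h
    have hlt := commutator_lt_of_isPGroup (hQ.to_le hDQ) (hQ.to_le hDQ) le_normalizer
      (fun h0 => hD (by rw [h0, commutator_bot_left]; exact bot_le))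
    exact hlt.not_ge (hmin ⟨hlt.le.trans hDQ, normalizer_le_normalizer_commutator_self D hσD,
      hTD.trans (normalizer_le_normalizer_commutator_self D), h⟩ hlt.le)
  have h3 := three_step_ker hr hσ hq hs hsq hqr hsr hqF (hQ.to_le hDQ) (hT.to_le hT₁) hσD hσ₁ hTD
    h1 h2 hfix
  have h4 := commutator_le_of_commutator_eq hTD le_normalizer_of_normal le_normalizer_of_normal h3
  rw [commutator_commutator_eq (zpowers_le.2 hσT) (cop_of_isPGroup hr hσ hs hsr hT)] at h4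
  exact hD h4

omit [Finite Γ] in
theorem le_kerOn_iff {U : Submodule F W} {X : Subgroup Γ} (hX : X ≤ stab ρ U) :
    X.subgroupOf (stab ρ U) ≤ (subRep ρ U).ker ↔ X ≤ kerOn ρ U :=
  ⟨fun h g hg => (subRep_eq_one_iff ρ U ⟨g, hX hg⟩).1 (h hg),
    fun h g hg => (subRep_eq_one_iff ρ U g).2 (h hg)⟩

omit [Finite Γ] in
theorem zpowers_subgroupOf {D : Subgroup Γ} (h : σ ∈ D) :
    (zpowers σ).subgroupOf D = zpowers ⟨σ, h⟩ := by
  apply Subgroup.map_injective D.subtype_injective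
  rw [map_subgroupOf_eq_of_le (zpowers_le.2 h), MonoidHom.map_zpowers]
  rfl

/-- irreducible subspaces -/
def Irr (ρ : Representation F Γ W) (Q : Subgroup Γ) (M : Submodule F W) : Prop :=
  M ≠ ⊥ ∧ Q ≤ stab ρ M ∧ ∀ U ≤ M, Q ≤ stab ρ U → U = ⊥ ∨ U = M

omit [Finite Γ] in
theorem exists_irr_le {Q : Subgroup Γ} {U : Submodule F W} (h0 : U ≠ ⊥) (hU : Q ≤ stab ρ U) :
    ∃ M ≤ U, Irr ρ Q M := by
  obtain ⟨M, ⟨h1, h2, h3⟩, hmin⟩ := exists_minimal_of_wellFoundedLT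
    (fun M : Submodule F W => M ≤ U ∧ M ≠ ⊥ ∧ Q ≤ stab ρ M) ⟨U, le_rfl, h0, hU⟩
  exact ⟨M, h1, h2, h3, fun V hV hQ => or_iff_not_imp_left.2 fun h =>
    le_antisymm hV (hmin ⟨hV.trans h1, h, hQ⟩ hV)⟩

section Irr

variable {Q : Subgroup Γ} {M : Submodule F W}

omit [Finite Γ] in
theorem Irr.map (h : Irr ρ Q M) {g : Γ} (hg : g ∈ 𝒩(Q)) : Irr ρ Q (M.map (ρ g)) := by
  refine ⟨map_rep_ne_bot ρ h.1 g, le_stab_map h.2.1 hg, fun U hU hQ => ?_⟩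
  have e : (U.map (ρ g⁻¹)).map (ρ g) = U := by rw [map_map_rep, mul_inv_cancel, map_rep_one]
  rcases h.2.2 (U.map (ρ g⁻¹)) (by
    simpa only [map_map_rep, inv_mul_cancel, map_rep_one] using Submodule.map_mono (f := ρ g⁻¹) hU)
    (le_stab_map hQ (inv_mem hg)) with h1 | h1
  · left; rw [← e, h1, Submodule.map_bot]
  · right; rw [← e, h1]

omit [Finite Γ] in
theorem Irr.le_kerOn (h : Irr ρ Q M) {H : Subgroup Γ}
    (hH : ∀ g ∈ Q, ∀ w ∈ M, w ∈ fixSp ρ H → ρ g w ∈ fixSp ρ H) {w : W} (hw : w ∈ M) (w0 : w ≠ 0)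
    (hwH : w ∈ fixSp ρ H) : H ≤ kerOn ρ M := by
  rcases h.2.2 (M ⊓ fixSp ρ H) inf_le_left
    (fun g hg v hv => ⟨h.2.1 hg v hv.1, hH g hg v hv.1 hv.2⟩) with h1 | h1
  · exact absurd (h1.le ⟨hw, hwH⟩) w0
  · exact fun g hg v hv => (h1.ge hv).2 g hg

theorem Irr.le_ker_av (h : Irr ρ Q M) {H : Subgroup Γ} (hHQ : H ≤ Q) (hH : Q ≤ 𝒩(H))
    (hne : ¬ H ≤ kerOn ρ M) : M ≤ LinearMap.ker (av ρ H) := fun w hw => by
  by_contra h0
  exact hne (h.le_kerOn (fun g hg v _ hv => apply_mem_fixSp (hH hg) hv)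
    (av_mem (hHQ.trans h.2.1) hw) h0 (av_mem_fixSp w))

omit [Finite Γ] [FiniteDimensional F W] in
theorem mem_nker_map {g x : Γ} (hg : g ∈ 𝒩(Q)) :
    x ∈ Q ⊓ kerOn ρ (M.map (ρ g)) ↔ g⁻¹ * x * g ∈ Q ⊓ kerOn ρ M := by
  rw [mem_inf, mem_inf, mem_kerOn_map_iff, ← mem_normalizer_iff''.1 hg]

omit [Finite Γ] in
theorem le_normalizer_nker (h : Q ≤ stab ρ M) : Q ≤ 𝒩(Q ⊓ kerOn ρ M) :=
  (le_inf le_normalizer (h.trans (stab_le_normalizer_kerOn ρ M))).trans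
    inf_normalizer_le_normalizer_inf

theorem eq_bot_of_forall_irr (hρ : ∀ g, ρ g = 1 → g = 1) {H : Subgroup Γ}
    (hH : Q ≤ 𝒩(H)) (hc : (Nat.card H : F) ≠ 0) (h : ∀ M, Irr ρ Q M → H ≤ kerOn ρ M) : H = ⊥ := by
  by_cases h0 : LinearMap.ker (av ρ H) = ⊥
  · refine eq_bot_iff.2 fun g hg => hρ g (LinearMap.ext fun w => ?_)
    exact le_kerOn_of_ker_av hc (U := ⊤) (fun _ _ _ _ => trivial) (fun w _ hw => by
      rw [show w = 0 from h0.le hw]; exact zero_mem _) hg w trivial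
  · obtain ⟨M, hM, hI⟩ := exists_irr_le h0 (hH.trans le_stab_ker_av)
    exact absurd (eq_bot_iff.2 fun w hw => eq_zero_of_av hc (hM hw) fun g hg => h M hI hg w hw) hI.1

/-- the sum of the irreducible subspaces with a given kernel -/
def WN (ρ : Representation F Γ W) (Q N : Subgroup Γ) : Submodule F W :=
  sSup {M | Irr ρ Q M ∧ Q ⊓ kerOn ρ M = N}

omit [Finite Γ] in
theorem mem_stab_WN {N : Subgroup Γ} {g : Γ} (hg : g ∈ 𝒩(Q)) (hN : g ∈ 𝒩(N)) :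
    g ∈ stab ρ (WN ρ Q N) := fun _ hw =>
  (sSup_le fun M hM => (Submodule.map_le_iff_le_comap.1 (le_sSup ⟨hM.1.map hg, by
    ext x
    rw [mem_nker_map hg, hM.2, ← mem_normalizer_iff''.1 hN]⟩)) :
    WN ρ Q N ≤ (WN ρ Q N).comap (ρ g)) hw

theorem WN_le_ker_av {N H : Subgroup Γ} (hHQ : H ≤ Q) (hH : Q ≤ 𝒩(H)) (hne : ¬ H ≤ N) :
    WN ρ Q N ≤ LinearMap.ker (av ρ H) :=
  sSup_le fun _ hM => hM.1.le_ker_av hHQ hH fun h => hne (hM.2 ▸ le_inf hHQ h)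

omit [Finite Γ] in
theorem WN_le_fixSp {N : Subgroup Γ} : WN ρ Q N ≤ fixSp ρ N :=
  sSup_le fun _ hM w hw _ hg => (hM.2.ge hg).2 w hw

end Irr

/-- the largest subgroup of `N` normalised by `σ` -/
def zcore (σ : Γ) (N : Subgroup Γ) : Subgroup Γ where
  carrier := {x | ∀ c ∈ zpowers σ, c⁻¹ * x * c ∈ N}
  one_mem' := fun c _ => by simp [one_mem]
  mul_mem' := fun {a b} ha hb c hc => by
    rw [show c⁻¹ * (a * b) * c = c⁻¹ * a * c * (c⁻¹ * b * c) by group]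
    exact mul_mem (ha c hc) (hb c hc)
  inv_mem' := fun {a} ha c hc => by
    rw [show c⁻¹ * a⁻¹ * c = (c⁻¹ * a * c)⁻¹ by group]
    exact inv_mem (ha c hc)

/-- the kernel of a constituent that is not seen by `A` -/
theorem bad (hr : r.Prime) (hσ : σ ^ r = 1) (hrF : (r : F) ≠ 0) {q : ℕ} (hq : q.Prime)
    (hqr : q ≠ r) (hqF : (q : F) ≠ 0) {Q : Subgroup Γ} (hQ : IsPGroup q Q) (hσQ : σ ∈ 𝒩(Q))
    (h2 : ⁅Q, Q⁆ ≤ 𝒞(Q)) {A : Submodule F W} (hP : PP ρ σ r A Q) {M : Submodule F W}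
    (hM : Irr ρ Q M) (h : A = ⊥ ∨ ¬ Q ⊓ 𝒞(zpowers σ) ⊓ kerOn ρ A ≤ kerOn ρ M) :
    σ ∈ 𝒩(Q ⊓ kerOn ρ M) ∧ (⁅Q, zpowers σ⁆ ≤ Q ⊓ kerOn ρ M ∨
      ∀ w ∈ WN ρ Q (Q ⊓ kerOn ρ M), ρ σ w = w → w = 0) := by
  have := Fact.mk hq
  have hcF : ∀ {H : Subgroup Γ}, H ≤ Q → (Nat.card H : F) ≠ 0 := fun h =>
    card_ne_zero_of_isPGroup hqF (hQ.to_le h)
  have hcop : ∀ {H : Subgroup Γ}, H ≤ Q → (Nat.card (zpowers σ)).Coprime (Nat.card H) := fun h =>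
    cop_of_isPGroup hr hσ hq hqr (hQ.to_le h)
  have hnd : ∀ {H : Subgroup Γ}, H ≤ Q → ¬ r ∣ Nat.card H := fun h =>
    (Nat.Prime.coprime_iff_not_dvd hr).1
      (coprime_card_of_isPGroup (hQ.to_le h) ((Nat.coprime_primes hr hq).2 hqr.symm))
  obtain ⟨k, ε, hk, hkA, ⟨w₀, hw₀, hw₁⟩, hε⟩ : ∃ (k : Γ) (ε : F), k ∈ Q ⊓ 𝒞(zpowers σ) ∧
      (∀ a ∈ A, ρ k a = ε • a) ∧ (∃ w ∈ M, ρ k w ≠ ε • w) ∧
      (k = 1 ∧ ε = 0 ∨ ε = 1 ∧ k ∉ kerOn ρ M) := by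
    rcases h with rfl | h
    · obtain ⟨w, hw, w0⟩ := (Submodule.ne_bot_iff M).1 hM.1
      exact ⟨1, 0, one_mem _, by simp, ⟨w, hw, by simpa using w0⟩, Or.inl ⟨rfl, rfl⟩⟩
    · obtain ⟨k, hk, hkM⟩ := SetLike.not_le_iff_exists.1 h
      refine ⟨k, 1, hk.1, fun a ha => by rw [one_smul]; exact hk.2 a ha, ?_, Or.inr ⟨rfl, hkM⟩⟩
      simpa [mem_kerOn] using hkM
  set N := Q ⊓ kerOn ρ M with hN
  have hQN : Q ≤ 𝒩(N) := le_normalizer_nker hM.2.1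
  have hzQ : zpowers σ ≤ 𝒩(Q) := zpowers_le.2 hσQ
  set O := zcore σ N
  have hON : O ≤ N := fun x hx => by simpa using hx 1 (one_mem _)
  have hσO : σ ∈ 𝒩(O) := Core.mem_normalizer_of_forall_conj_mem fun x hx c hc => by
    have := hx (σ⁻¹ * c) (mul_mem (inv_mem (mem_zpowers σ)) hc)
    rwa [show (σ⁻¹ * c)⁻¹ * x * (σ⁻¹ * c) = c⁻¹ * (σ * x * σ⁻¹) * c by group] at this
  have hQO : Q ≤ 𝒩(O) := fun g hg => Core.mem_normalizer_of_forall_conj_mem fun x hx c hc => by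
    have := (mem_normalizer_iff.1 (hQN ((mem_normalizer_iff''.1 (hzQ hc) g).1 hg)) _).1 (hx c hc)
    rwa [show c⁻¹ * g * c * (c⁻¹ * x * c) * (c⁻¹ * g * c)⁻¹ = c⁻¹ * (g * x * g⁻¹) * c by group]
      at this
  set π : Module.End F W := (ρ k - ε • 1) * av ρ O with hπ
  have hπa : ∀ w, π w = ρ k (av ρ O w) - ε • av ρ O w := fun w => rfl
  have hπc : ∀ g ∈ 𝒩(O), ⁅g⁻¹, k⁻¹⁆ ∈ O → π * ρ g = ρ g * π := fun g hg hc =>
    LinearMap.ext fun w => by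
      simp only [Module.End.mul_apply, hπa, map_sub, map_smul]
      rw [← apply_comm (av_comm hg), comm_on hc (av_mem_fixSp w)]
  have hπσ : π * ρ σ = ρ σ * π := hπc σ hσO (by
    rw [(Commute.inv_inv (mem_cz.1 hk.2)).commutator_eq]; exact one_mem _)
  have hπA : ∀ a ∈ A, π a = 0 := fun a ha => by
    rw [hπa, apply_comm (av_comm (hQO hk.1)), hkA a ha, map_smul, sub_self]
  have hπf : ∀ w ∈ fixSp ρ O, π w = (Nat.card O : F) • (ρ k w - ε • w) := fun w hw => by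
    rw [hπa, av_of_fixed hw, map_smul, smul_sub, smul_comm ε]
  have hπO : LinearMap.range π ≤ fixSp ρ O := by
    rintro _ ⟨w, rfl⟩
    exact sub_mem (apply_mem_fixSp (hQO hk.1) (av_mem_fixSp w))
      ((fixSp ρ O).smul_mem _ (av_mem_fixSp w))
  have hst : ∀ g, π * ρ g = ρ g * π → g ∈ stab ρ (LinearMap.range π) := by
    rintro g hg _ ⟨w, rfl⟩
    exact ⟨_, apply_comm hg w⟩
  have hMO : M ≤ fixSp ρ O := fun w hw g hg => (hON hg).2 w hw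
  set Z := Q ⊓ Core.commutatorStabilizer Q O
  have hσZ : σ ∈ 𝒩(Z) := Core.mem_normalizer_of_forall_conj_mem fun x hx =>
    ⟨(mem_normalizer_iff.1 hσQ x).1 hx.1, conj_mem_commutatorStabilizer hσQ hσO hx.2⟩
  have hQZ : ⁅Q, Q⁆ ≤ Z := fun x hx =>
    ⟨Core.commutator_le_of_le le_rfl le_rfl hx, hQO (Core.commutator_le_of_le le_rfl le_rfl hx),
      fun c hc => by rw [(Commute.symm (h2 hx c hc)).commutator_eq]; exact one_mem _⟩
  set Y := ⁅Z, zpowers σ⁆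
  have hYZ : Y ≤ Z := commutator_le_of_le_normalizer (zpowers_le.2 hσZ)
  have hσY : zpowers σ ≤ 𝒩(Y) := normalizer_commutator_ge_right _ _
  have hZc : ∀ g ∈ Z, π * ρ g = ρ g * π := fun g hg =>
    hπc g (hQO hg.1) ((Z.inv_mem hg).2.2 _ (Q.inv_mem hk.1))
  have hY : Y ≤ kerOn ρ (LinearMap.range π) := le_kerOn_of_fix hr hσ hq hqr hqF
    (hQ.to_le (hYZ.trans inf_le_left)) (hσY (mem_zpowers σ))
    (commutator_commutator_eq (zpowers_le.2 hσZ) (hcop inf_le_left)).ge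
    (fun g hg => hst g (hZc g (hYZ hg))) (hst σ hπσ)
    (fun w hw => (hP.mono inf_le_left).fixed hr hσ hrF hσZ (hnd inf_le_left) hπσ hZc hπA hw)
    (Or.inr fun a ha b hb w hw =>
      comm_on ((Z.inv_mem (hYZ hb)).2.2 _ (Q.inv_mem (hYZ ha).1)) (hπO hw))
  have hYN : Y ≤ N := le_inf (hYZ.trans inf_le_left) (hM.le_kerOn (w := π w₀)
    (fun g hg w hw hf y hy => by
      rw [← comm_on ((Z.inv_mem (hYZ hy)).2.2 _ (Q.inv_mem hg)) (hMO hw), hf y hy])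
    (by rw [hπf _ (hMO hw₀)]
        exact M.smul_mem _ (sub_mem (hM.2.1 hk.1 _ hw₀) (M.smul_mem _ hw₀)))
    (by rw [hπf _ (hMO hw₀)]
        exact smul_ne_zero (hcF (hON.trans inf_le_left)) (sub_ne_zero.2 hw₁))
    fun y hy => hY hy _ ⟨w₀, rfl⟩)
  have hNZ : N ⊓ Z ≤ O := fun b hb c hc => by
    rw [show c⁻¹ * b * c = b * ⁅b⁻¹, c⁻¹⁆ by group]
    exact mul_mem hb.1 (hYN (commutator_mem_commutator (Z.inv_mem hb.2) (inv_mem hc)))
  have hNO : O = N := le_antisymm hON fun a ha => hNZ ⟨ha, ha.1, hQO ha.1, fun c hc =>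
    hNZ ⟨commutator_le_of_le_normalizer hQN (commutator_mem_commutator ha hc),
      hQZ (commutator_mem_commutator ha.1 hc)⟩⟩
  have hσN : σ ∈ 𝒩(N) := hNO ▸ hσO
  refine ⟨hσN, or_iff_not_imp_left.2 fun hD => ?_⟩
  set D := ⁅Q, zpowers σ⁆
  have hDQ : D ≤ Q := commutator_le_of_le_normalizer hzQ
  have hDC : ⁅D, Q ⊓ 𝒞(zpowers σ)⁆ ≤ N := commutator_centralizer_commutator_le hQN
    (zpowers_le.2 hσN) ((commutator_mono hQZ le_rfl).trans hYN)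
  have hst' : Q ≤ stab ρ (WN ρ Q N) := fun g hg => mem_stab_WN (le_normalizer hg) (hQN hg)
  have h3 : ∀ w ∈ WN ρ Q N, ρ σ w = w → ρ k w = ε • w := by
    intro w hw hfix
    have h4 := (hP.mono hDQ).fixed hr hσ hrF (normalizer_commutator_ge_right _ _ (mem_zpowers σ))
      (hnd hDQ) hπσ (fun g hg => hπc g (hQO (hDQ hg))
        (hNO ▸ hDC (commutator_mem_commutator (inv_mem hg) (inv_mem hk)))) hπA ⟨w, rfl⟩
      (by rw [← apply_comm hπσ, hfix])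
    rw [commutator_commutator_eq hzQ (hcop le_rfl), hπf _ (hNO ▸ WN_le_fixSp hw),
      Submodule.smul_mem_iff _ (hcF (hON.trans inf_le_left))] at h4
    exact sub_eq_zero.1 (eq_zero_of_av (hcF hDQ) (WN_le_ker_av hDQ
      (normalizer_commutator_ge_left _ _) hD (sub_mem (hst' hk.1 w hw) (Submodule.smul_mem _ _ hw)))
      h4)
  intro w hw hfix
  rcases hε with ⟨rfl, rfl⟩ | ⟨rfl, hkM⟩
  · simpa using h3 w hw hfix
  set V := WN ρ Q N ⊓ fixSp ρ (zpowers σ)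
  set K := (Q ⊓ 𝒞(zpowers σ)) ⊓ kerOn ρ V
  have hKQ : K ⊔ N ≤ Q := sup_le (inf_le_left.trans inf_le_left) inf_le_left
  have h4 : Q ≤ 𝒩(K ⊔ N) := by
    rw [← commutator_sup_centralizer hzQ (hcop le_rfl) (Or.inl (isSolvable_zpowers σ))]
    refine sup_le (Core.le_normalizer_of_commutator_le (Core.commutator_sup_left_le
      (le_sup_left.trans le_normalizer) (le_sup_right.trans le_normalizer) ?_
      ((commutator_le_of_le_normalizer (hDQ.trans hQN)).trans le_sup_right))) fun g hg => ?_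
    · rw [commutator_comm]
      exact ((commutator_mono le_rfl inf_le_left).trans hDC).trans le_sup_right
    · exact Core.normalizer_inf_le_normalizer_sup _ _ ⟨inf_normalizer_le_normalizer_inf
        ⟨le_normalizer hg, stab_le_normalizer_kerOn ρ V (stab_inf (hst' hg.1)
          (le_stab_fixSp (centralizer_le_normalizer _ hg.2)))⟩, hQN hg.1⟩
  have h5 : K ⊔ N ≤ kerOn ρ V := sup_le inf_le_right fun g hg v hv => WN_le_fixSp hv.1 g hg
  refine eq_zero_of_av (hcF hKQ) (WN_le_ker_av hKQ h4 (fun h => hkM (mem_inf.1 (h (mem_sup_left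
    ⟨hk, fun v hv => ?_⟩))).2) hw) fun g hg => h5 hg w ⟨hw, mem_fixSp_zpowers.2 hfix⟩
  simpa using h3 v hv.1 (mem_fixSp_zpowers.1 hv.2)

theorem bad_comm [IsAlgClosed F] (hr : r.Prime) (hσ : σ ^ r = 1) (hrF : (r : F) ≠ 0) {q s : ℕ}
    (hq : q.Prime) (hs : s.Prime) (hsq : s ≠ q) (hqr : q ≠ r) (hsr : s ≠ r) (hqF : (q : F) ≠ 0)
    {Q : Subgroup Γ} (hQ : IsPGroup q Q) (hσQ : σ ∈ 𝒩(Q)) (h2 : ⁅Q, Q⁆ ≤ 𝒞(Q))
    {A : Submodule F W} (hP : PP ρ σ r A Q) {M : Submodule F W} (hM : Irr ρ Q M)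
    (h : A = ⊥ ∨ ¬ Q ⊓ 𝒞(zpowers σ) ⊓ kerOn ρ A ≤ kerOn ρ M) {T : Subgroup Γ} (hT : IsPGroup s T)
    (hσT : σ ∈ 𝒩(T)) (hTQ : T ≤ 𝒩(Q)) (hTN : T ≤ 𝒩(Q ⊓ kerOn ρ M)) :
    ⁅Q, ⁅T, zpowers σ⁆⁆ ≤ Q ⊓ kerOn ρ M := by
  obtain ⟨h1, h3 | h3⟩ := bad hr hσ hrF hq hqr hqF hQ hσQ h2 hP hM h
  · exact commutator_le_of_commutator_eq hTQ hTN (zpowers_le.2 h1) h3
  set U := WN ρ Q (Q ⊓ kerOn ρ M)
  have hQU : Q ≤ stab ρ U := fun g hg =>
    mem_stab_WN (le_normalizer hg) (le_normalizer_nker hM.2.1 hg)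
  have hTU : T ≤ stab ρ U := fun g hg => mem_stab_WN (hTQ hg) (hTN hg)
  have hσU : σ ∈ stab ρ U := mem_stab_WN hσQ h1
  have hT₁ : ⁅T, zpowers σ⁆ ≤ T := commutator_le_of_le_normalizer (zpowers_le.2 hσT)
  have h4 := three_step_comm (ρ := subRep ρ U) (σ := ⟨σ, hσU⟩) hr (Subtype.ext hσ) hq hs hsq hqr
    hsr hqF (Q := Q.subgroupOf _) (T := T.subgroupOf _) hQ.comap_subtype hT.comap_subtype
    (mem_normalizer_subgroupOf hσQ) (mem_normalizer_subgroupOf hσT)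
    (fun g hg => mem_normalizer_subgroupOf (hTQ hg))
    fun v hv => Subtype.ext (h3 _ v.2 (congrArg Subtype.val hv))
  rw [← zpowers_subgroupOf hσU, Core.commutator_subgroupOf hTU (zpowers_le.2 hσU),
    Core.commutator_subgroupOf hQU (hT₁.trans hTU),
    le_kerOn_iff (Core.commutator_le_of_le hQU (hT₁.trans hTU))] at h4
  exact le_inf (commutator_le_of_le_normalizer (hT₁.trans hTQ))
    fun g hg w hw => h4 hg w ((le_sSup ⟨hM, rfl⟩ : M ≤ U) hw)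

/-- the bottom of the induction -/
theorem base [IsAlgClosed F] (hρ : ∀ g, ρ g = 1 → g = 1) (hr : r.Prime) (hσ : σ ^ r = 1)
    (hrF : (r : F) ≠ 0) {q s : ℕ} (hq : q.Prime) (hs : s.Prime) (hsq : s ≠ q) (hqr : q ≠ r)
    (hsr : s ≠ r) (hqF : (q : F) ≠ 0) {Q₁ S : Subgroup Γ} (hQ₁ : IsPGroup q Q₁) (hS : IsPGroup s S)
    (hσQ₁ : σ ∈ 𝒩(Q₁)) (hσS : σ ∈ 𝒩(S)) (hSQ₁ : S ≤ 𝒩(Q₁)) (hne : ¬ S ≤ 𝒞(Q₁))
    (hP : PP ρ σ r ⊥ Q₁) : ∃ D ≤ Q₁ ⊓ 𝒞(zpowers σ), D ≠ ⊥ ∧ D ≤ ⁅D, S ⊓ 𝒞(zpowers σ)⁆ := by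
  have := Fact.mk hq
  have := Fact.mk hs
  obtain ⟨Q, hQQ, hσQ, hSQ, hne, hmin⟩ :=
    exists_minimal_not_le_centralizer (zpowers_le.2 hσQ₁) hSQ₁ hne
  have hQ := hQ₁.to_le hQQ
  replace hP := hP.mono hQQ
  obtain ⟨hQS, h2, hSZ, -, -⟩ := minimal_special hQ hσQ hSQ (zpowers_le.2 hσS)
    (coprime_card_of_isPGroup hQ
      (Core.isPGroup_coprime_card hS ((Nat.coprime_primes hq hs).2 hsq.symm))) hne hmin
  have hcF : ∀ {H : Subgroup Γ}, H ≤ Q → (Nat.card H : F) ≠ 0 := fun h =>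
    card_ne_zero_of_isPGroup hqF (hQ.to_le h)
  set S₁ := ⁅S, zpowers σ⁆
  have hS₁ : S₁ ≤ S := commutator_le_of_le_normalizer (zpowers_le.2 hσS)
  have h1 : ∀ M, Irr ρ Q M → S₁ ≤ 𝒩(Q ⊓ kerOn ρ M) := by
    intro M hM
    refine commutator_le.2 fun g hg c hc => ?_
    have h3 := fun M hM => (zpowers_le.2 (bad hr hσ hrF hq hqr hqF hQ (zpowers_le.1 hσQ) h2 hP
      (M := M) hM (Or.inl rfl)).1) hc
    refine mul_mem (Core.mem_normalizer_of_forall_conj_mem fun x hx => ?_) (inv_mem (h3 M hM))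
    have h4 := (mem_normalizer_iff.1 (h3 _ (hM.map (inv_mem (hSQ hg)))) (g⁻¹ * x * g)).1
      ((mem_nker_map (inv_mem (hSQ hg))).2 (by simpa [mul_assoc] using hx))
    rw [mem_nker_map (inv_mem (hSQ hg))] at h4
    convert h4 using 1
    group
  have hcS := cop_of_isPGroup hr hσ hs hsr hS
  have h3 : ⁅Q, S₁⁆ = ⊥ := by
    refine eq_bot_of_forall_irr hρ (normalizer_commutator_ge_left _ _)
      (hcF (commutator_le_of_le_normalizer (hS₁.trans hSQ)))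
      fun M hM => ?_
    have := bad_comm hr hσ hrF hq hs hsq hqr hsr hqF hQ (zpowers_le.1 hσQ) h2 hP hM (Or.inl rfl)
      (hS.to_le hS₁) (normalizer_commutator_ge_right _ _ (mem_zpowers σ)) (hS₁.trans hSQ) (h1 M hM)
    rw [commutator_commutator_eq (zpowers_le.2 hσS) hcS] at this
    exact this.trans inf_le_right
  have h4 : S₁ ≤ 𝒞(Q) := le_centralizer_iff.1 (commutator_eq_bot_iff_le_centralizer.1 h3)
  have hSS := commutator_sup_centralizer (zpowers_le.2 hσS) hcS (Or.inl (isSolvable_zpowers σ))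
  have h5 : ∀ X ≤ Q, S ⊓ 𝒞(zpowers σ) ≤ 𝒩(X) → S ≤ 𝒩(X) := fun X hX h => by
    rw [← hSS]
    exact sup_le ((h4.trans (centralizer_le (SetLike.coe_subset_coe.2 hX))).trans
      (centralizer_le_normalizer _)) h
  have hQ0 : Q ≠ ⊥ := by
    rintro rfl
    exact hne fun _ _ _ h => by rw [mem_bot.1 h, one_mul, mul_one]
  by_cases hD : Q ≤ 𝒞(zpowers σ)
  · refine ⟨Q, le_inf hQQ hD, hQ0, hQS.ge.trans ?_⟩
    conv_lhs => rw [← hSS]
    refine Core.commutator_sup_right_le ((h4.trans (centralizer_le (SetLike.coe_subset_coe.2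
      (commutator_le_of_le_normalizer (inf_le_left.trans hSQ))))).trans
      (centralizer_le_normalizer _)) (normalizer_commutator_ge_right _ _) (h3.le.trans bot_le) le_rfl
  exfalso
  have hCz : S ⊓ 𝒞(zpowers σ) ≤ 𝒩(zpowers σ) := inf_le_right.trans (centralizer_le_normalizer _)
  have h6 : S ≤ 𝒞(Q ⊓ 𝒞(zpowers σ)) := hmin _ (inf_lt_left.2 hD)
    ((le_inf hσQ ((Subgroup.le_centralizer (zpowers σ)).trans le_normalizer)).trans
      inf_normalizer_le_normalizer_inf)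
    (h5 _ inf_le_left ((le_inf (inf_le_left.trans hSQ) (inf_le_right.trans le_normalizer)).trans
      inf_normalizer_le_normalizer_inf))
  have hcQ := cop_of_isPGroup hr hσ hq hqr hQ
  have h7 : ⁅Q, zpowers σ⁆ = Q := by
    by_contra h
    have := hmin _ ((commutator_le_of_le_normalizer hσQ).lt_of_ne h)
      (normalizer_commutator_ge_right _ _) (h5 _ (commutator_le_of_le_normalizer hσQ)
      ((le_inf (inf_le_left.trans hSQ) hCz).trans (Core.normalizer_inf_le_normalizer_commutator _ _)))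
    refine hne ?_
    rw [← commutator_sup_centralizer hσQ hcQ (Or.inl (isSolvable_zpowers σ)), Core.centralizer_sup]
    exact le_inf this h6
  set U := LinearMap.ker (av ρ Q)
  have hQU : Q ≤ stab ρ U := le_normalizer.trans le_stab_ker_av
  have hSU : S ≤ stab ρ U := hSQ.trans le_stab_ker_av
  have hσU : σ ∈ stab ρ U := le_stab_ker_av (zpowers_le.1 hσQ)
  have h8 := three_step_ker (ρ := subRep ρ U) (σ := ⟨σ, hσU⟩) hr (Subtype.ext hσ) hq hs hsq hqr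
    hsr hqF (Q := Q.subgroupOf _) (T := S.subgroupOf _) hQ.comap_subtype hS.comap_subtype
    (mem_normalizer_subgroupOf (zpowers_le.1 hσQ)) (mem_normalizer_subgroupOf hσS)
    (fun g hg => mem_normalizer_subgroupOf (hSQ hg))
    (by rw [Core.commutator_subgroupOf hQU hSU, hQS])
    (by rw [Core.commutator_subgroupOf hQU hQU,
          Core.commutator_subgroupOf (Core.commutator_le_of_le hQU hQU) hSU,
          commutator_eq_bot_iff_le_centralizer.2 (le_centralizer_iff.1 hSZ), bot_subgroupOf]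
        exact bot_le)
    fun v hv => Subtype.ext (eq_zero_of_av (hcF le_rfl) v.2 (by
      have := hP.fixed hr hσ hrF (zpowers_le.1 hσQ) ((Nat.Prime.coprime_iff_not_dvd hr).1
        (coprime_card_of_isPGroup hQ ((Nat.coprime_primes hr hq).2 hqr.symm))) (π := 1)
        (by simp) (by simp) (by simp) (w := v) ⟨v, rfl⟩ (congrArg Subtype.val hv)
      rwa [h7] at this))
  rw [← zpowers_subgroupOf hσU, Core.commutator_subgroupOf hQU (zpowers_le.2 hσU), h7,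
    le_kerOn_iff hQU] at h8
  refine hQ0 (eq_bot_iff.2 fun g hg => hρ g (LinearMap.ext fun w => ?_))
  exact le_kerOn_of_ker_av (hcF le_rfl) (U := ⊤) (fun _ _ _ _ => trivial)
    (fun w _ hw g hg => h8 hg w hw) hg w trivial

end CfsgLib.Tur
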