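import Cfsg.Agent.Lib.FPF.Ward
import Cfsg.Agent.Lib.FPF.Three

/-!
# Traces, averages and good vectors (for Turull's theorem on the Fitting height of fixed points)

`σ` is an element with `σ ^ r = 1`.  A vector fixed by `σ` is *good* for a subspace `A` and a
subgroup `S` when each of its `S`-translates is fixed by `σ` or has its trace in `A`.
-/

set_option autoImplicit false

namespace CfsgLib.Tur

open Subgroup Finset Module CfsgLib.HH CfsgLib.FPF CfsgLib.Coprime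
open scoped commutatorElement

scoped notation "𝒩(" X ")" => Subgroup.normalizer (SetLike.coe (X : Subgroup _))
scoped notation "𝒞(" X ")" => Subgroup.centralizer (SetLike.coe (X : Subgroup _))

variable {F : Type*} [Field F] {Γ : Type*} [Group Γ] {W : Type*} [AddCommGroup W] [Module F W]
variable {ρ : Representation F Γ W} {σ : Γ} {r : ℕ}

theorem cop_of_not_dvd (hr : r.Prime) (hσ : σ ^ r = 1) {n : ℕ} (h : ¬ r ∣ n) :
    (Nat.card (zpowers σ)).Coprime n := by
  rw [Nat.card_zpowers]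
  exact ((Nat.Prime.coprime_iff_not_dvd hr).2 h).coprime_dvd_left (orderOf_dvd_of_pow_eq_one hσ)

theorem cop_of_isPGroup [Finite Γ] (hr : r.Prime) (hσ : σ ^ r = 1) {q : ℕ} (hq : q.Prime)
    (hqr : q ≠ r) {Q : Subgroup Γ} (hQ : IsPGroup q Q) :
    (Nat.card (zpowers σ)).Coprime (Nat.card Q) := by
  have := Fact.mk hq
  refine coprime_card_of_isPGroup hQ (cop_of_not_dvd hr hσ fun h => hqr ?_)
  exact ((Nat.prime_dvd_prime_iff_eq hr hq).1 h).symm

theorem mem_cz {g : Γ} : g ∈ 𝒞(zpowers σ) ↔ σ * g = g * σ := by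
  refine ⟨fun h => h σ (mem_zpowers σ), fun h => ?_⟩
  rintro _ ⟨n, rfl⟩
  exact (Commute.zpow_left h n).eq

theorem mem_of_pow_mem {C : Subgroup Γ} {x : Γ} {s j : ℕ} (hs : s.Prime) (hx : x ^ s ∈ C)
    (hj : ¬ s ∣ j) (h : x ^ j ∈ C) : x ∈ C := by
  obtain ⟨n, -, hn⟩ := Nat.exists_mul_mod_eq_one_of_coprime
    ((Nat.Prime.coprime_iff_not_dvd hs).2 hj).symm hs.one_lt
  have h1 := pow_mem h n
  rw [← pow_mul, ← Nat.mod_add_div (j * n) s, hn, pow_add, pow_one, pow_mul] at h1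
  exact (C.mul_mem_cancel_right (pow_mem hx _)).1 h1

theorem rep_comm {a b : Γ} (h : a * b = b * a) : ρ a * ρ b = ρ b * ρ a := by
  rw [← map_mul, h, map_mul]

theorem rep_rep (a b : Γ) (w : W) : ρ a (ρ b w) = ρ (a * b) w := by
  rw [map_mul, Module.End.mul_apply]

theorem apply_comm {φ ψ : Module.End F W} (h : φ * ψ = ψ * φ) (w : W) : φ (ψ w) = ψ (φ w) := by
  rw [← Module.End.mul_apply, h, Module.End.mul_apply]

/-- the trace of `σ` -/
noncomputable def tr (ρ : Representation F Γ W) (σ : Γ) (r : ℕ) : Module.End F W :=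
  ∑ j ∈ range r, ρ (σ ^ j)

theorem tr_apply (w : W) : tr ρ σ r w = ∑ j ∈ range r, ρ (σ ^ j) w := by
  simp [tr, LinearMap.sum_apply]

theorem tr_fixed (hσ : σ ^ r = 1) (w : W) : ρ σ (tr ρ σ r w) = tr ρ σ r w := by
  have h1 := sum_range_succ' (fun j => ρ (σ ^ j) w) r
  have h2 := sum_range_succ (fun j => ρ (σ ^ j) w) r
  rw [h2, hσ, pow_zero] at h1
  rw [tr_apply, map_sum, add_right_cancel h1]
  exact sum_congr rfl fun j _ => by rw [rep_rep, pow_succ']

theorem pow_fixed {w : W} (hw : ρ σ w = w) (j : ℕ) : ρ (σ ^ j) w = w := by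
  induction j with
  | zero => simp
  | succ j ih => rw [pow_succ, ← rep_rep, hw, ih]

theorem tr_of_fixed {w : W} (hw : ρ σ w = w) : tr ρ σ r w = (r : F) • w := by
  rw [tr_apply, sum_congr rfl fun j _ => pow_fixed hw j, sum_const, card_range,
    Nat.cast_smul_eq_nsmul]

theorem tr_comm {φ : Module.End F W} (h : φ * ρ σ = ρ σ * φ) (w : W) :
    φ (tr ρ σ r w) = tr ρ σ r (φ w) := by
  rw [tr_apply, tr_apply, map_sum]
  refine sum_congr rfl fun j _ => apply_comm ?_ w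
  rw [map_pow]
  exact (Commute.pow_right h j).eq

theorem tr_mem [FiniteDimensional F W] {U : Submodule F W} (hU : σ ∈ stab ρ U) {w : W}
    (hw : w ∈ U) : tr ρ σ r w ∈ U := by
  rw [tr_apply]
  exact U.sum_mem fun j _ => pow_mem hU j w hw

/-- the sum over a finite subgroup -/
noncomputable def av [Finite Γ] (ρ : Representation F Γ W) (H : Subgroup Γ) : Module.End F W :=
  haveI := Fintype.ofFinite H
  ∑ h : H, ρ h

section av

variable [Finite Γ] {H : Subgroup Γ}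

theorem av_eq [Fintype H] : av ρ H = ∑ h : H, ρ h := by
  unfold av
  congr!

theorem av_apply [Fintype H] (w : W) : av ρ H w = ∑ h : H, ρ h w := by
  simp [av_eq, LinearMap.sum_apply]

theorem mul_av {h : Γ} (hh : h ∈ H) : ρ h * av ρ H = av ρ H := by
  have := Fintype.ofFinite H
  rw [av_eq, mul_sum]
  exact Fintype.sum_equiv (Equiv.mulLeft (⟨h, hh⟩ : H)) _ _ fun y => by simp

theorem av_mul {h : Γ} (hh : h ∈ H) : av ρ H * ρ h = av ρ H := by
  have := Fintype.ofFinite H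
  rw [av_eq, sum_mul]
  exact Fintype.sum_equiv (Equiv.mulRight (⟨h, hh⟩ : H)) _ _ fun y => by simp

theorem av_mem_fixSp (w : W) : av ρ H w ∈ fixSp ρ H := fun h hh => by
  rw [← Module.End.mul_apply, mul_av hh]

theorem av_comm {g : Γ} (hg : g ∈ 𝒩(H)) : ρ g * av ρ H = av ρ H * ρ g := by
  have := Fintype.ofFinite H
  rw [av_eq, mul_sum, sum_mul]
  refine Fintype.sum_equiv (normalizerMonoidHom H ⟨g, hg⟩).toEquiv _ _ fun y => ?_
  rw [← map_mul, ← map_mul]
  congr 1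
  change _ = g * y * g⁻¹ * g
  group

theorem comm_av {φ : Module.End F W} (h : ∀ g ∈ H, φ * ρ g = ρ g * φ) :
    φ * av ρ H = av ρ H * φ := by
  have := Fintype.ofFinite H
  rw [av_eq, mul_sum, sum_mul]
  exact sum_congr rfl fun y _ => h y y.2

theorem av_of_fixed {w : W} (hw : w ∈ fixSp ρ H) : av ρ H w = (Nat.card H : F) • w := by
  have := Fintype.ofFinite H
  rw [av_apply, sum_congr rfl fun (y : H) _ => hw y y.2, sum_const, card_univ, Nat.card_eq_fintype_card,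
    Nat.cast_smul_eq_nsmul]

theorem mul_av_of_inv {φ : Module.End F W} (h : ∀ g ∈ H, φ * ρ g = φ) :
    φ * av ρ H = (Nat.card H : F) • φ := by
  have := Fintype.ofFinite H
  rw [av_eq, mul_sum, sum_congr rfl fun (y : H) _ => h y y.2, sum_const, card_univ,
    Nat.card_eq_fintype_card, Nat.cast_smul_eq_nsmul]

theorem av_mem [FiniteDimensional F W] {U : Submodule F W} (hU : H ≤ stab ρ U) {w : W}
    (hw : w ∈ U) : av ρ H w ∈ U := by
  have := Fintype.ofFinite H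
  rw [av_apply]
  exact U.sum_mem fun y _ => hU y.2 w hw

theorem eq_zero_of_av (hc : (Nat.card H : F) ≠ 0) {w : W} (h1 : av ρ H w = 0)
    (h2 : w ∈ fixSp ρ H) : w = 0 := by
  rw [av_of_fixed h2] at h1
  exact (smul_eq_zero.1 h1).resolve_left hc

theorem av_sub (w : W) : av ρ H ((Nat.card H : F) • w - av ρ H w) = 0 := by
  rw [map_sub, map_smul, av_of_fixed (av_mem_fixSp w), sub_self]

theorem le_stab_ker_av [FiniteDimensional F W] :
    𝒩(H) ≤ stab ρ (LinearMap.ker (av ρ H)) := fun g hg w hw => by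
  rw [LinearMap.mem_ker] at hw ⊢
  rw [← apply_comm (av_comm hg), hw, map_zero]

/-- if `H` has no moved vector in `U` then it fixes `U` -/
theorem le_kerOn_of_ker_av [FiniteDimensional F W] (hc : (Nat.card H : F) ≠ 0)
    {U : Submodule F W} (hU : H ≤ stab ρ U) (h : ∀ w ∈ U, av ρ H w = 0 → w ∈ fixSp ρ H) :
    H ≤ kerOn ρ U := by
  intro g hg w hw
  have h1 := eq_zero_of_av hc (av_sub w)
    (h _ (U.sub_mem (U.smul_mem _ hw) (av_mem hU hw)) (av_sub w))
  have h2 : (Nat.card H : F) • w ∈ fixSp ρ H := by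
    rw [sub_eq_zero.1 h1]
    exact av_mem_fixSp w
  exact ((fixSp ρ H).smul_mem_iff hc).1 h2 g hg

end av

theorem stab_inf [FiniteDimensional F W] {U U' : Submodule F W} {g : Γ} (h : g ∈ stab ρ U)
    (h' : g ∈ stab ρ U') : g ∈ stab ρ (U ⊓ U') := fun w hw => ⟨h w hw.1, h' w hw.2⟩

theorem mem_stab_map_of_comm [FiniteDimensional F W] {U : Submodule F W} {g : Γ}
    {φ : Module.End F W} (h : g ∈ stab ρ U) (hφ : ∀ w ∈ U, φ (ρ g w) = ρ g (φ w)) :
    g ∈ stab ρ (U.map φ) := by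
  rintro _ ⟨w, hw, rfl⟩
  exact ⟨_, h w hw, hφ w hw⟩

theorem commutator_le_kerOn [FiniteDimensional F W] {U : Submodule F W} {D T : Subgroup Γ}
    (hD : D ≤ stab ρ U) (hT : T ≤ kerOn ρ U) : ⁅D, T⁆ ≤ kerOn ρ U :=
  (commutator_mono (hD.trans (stab_le_normalizer_kerOn ρ U)) hT).trans
    (by rw [commutator_comm]; exact commutator_le_of_le_normalizer le_rfl)

/-! ### good vectors -/

/-- good vectors -/
def Good (ρ : Representation F Γ W) (σ : Γ) (r : ℕ) (A : Submodule F W) (S : Subgroup Γ) (v : W) :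
    Prop :=
  ρ σ v = v ∧ ∀ g ∈ S, ρ σ (ρ g v) = ρ g v ∨ tr ρ σ r (ρ g v) ∈ A

theorem Good.mono {A : Submodule F W} {S T : Subgroup Γ} {v : W} (h : Good ρ σ r A S v)
    (hT : T ≤ S) : Good ρ σ r A T v := ⟨h.1, fun g hg => h.2 g (hT hg)⟩

/-- the fixed vectors are spanned by `A` and the good vectors -/
def PP (ρ : Representation F Γ W) (σ : Γ) (r : ℕ) (A : Submodule F W) (S : Subgroup Γ) : Prop :=
  ∀ w, ρ σ w = w → w ∈ A ⊔ Submodule.span F {v | Good ρ σ r A S v}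

theorem PP.mono {A : Submodule F W} {S T : Subgroup Γ} (h : PP ρ σ r A S) (hT : T ≤ S) :
    PP ρ σ r A T := fun w hw =>
  sup_le_sup_left (Submodule.span_mono fun _ hv => Good.mono hv hT) A (h w hw)

theorem PP.ind {A : Submodule F W} {S : Subgroup Γ} (h : PP ρ σ r A S) {U : Submodule F W}
    (hA : A ≤ U) (hv : ∀ v, Good ρ σ r A S v → v ∈ U) {w : W} (hw : ρ σ w = w) : w ∈ U :=
  sup_le hA (Submodule.span_le.2 hv) (h w hw)

theorem good_type [Finite Γ] (hr : r.Prime) (hσ : σ ^ r = 1) (hrF : (r : F) ≠ 0)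
    {D : Subgroup Γ} (hD : σ ∈ 𝒩(D)) {u : W}
    (hu : ∀ g ∈ D, ∀ j, ρ σ (ρ (g * σ ^ j) u) = ρ (g * σ ^ j) u ∨ tr ρ σ r (ρ (g * σ ^ j) u) = 0)
    {g : Γ} (hg : g ∈ D) (h : ρ σ (ρ g u) = ρ g u) : ρ σ (ρ (g * σ) u) = ρ (g * σ) u := by
  classical
  by_cases hfix : ρ σ u = u
  · rwa [← rep_rep, hfix]
  let ty : W → Γ → Prop := fun w a => ρ σ (ρ a w) = ρ a w
  have h0 : tr ρ σ r u = 0 := by simpa [hfix] using hu 1 D.one_mem 0
  have key : ∀ s : Finset Γ, (∀ a ∈ s, a ∈ D) →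
      ∑ j ∈ (range r).filter fun j => ∀ a ∈ s, ty (ρ (σ ^ j) u) a, ρ (σ ^ j) u = 0 := by
    intro s
    induction s using Finset.induction_on with
    | empty => intro _; simpa [tr_apply] using h0
    | insert a s _ ih =>
      intro hs
      have h1 := congrArg (fun w => tr ρ σ r (ρ a w)) (ih fun b hb => hs b (mem_insert_of_mem hb))
      simp only [map_sum, map_zero] at h1
      have h2 : ∀ j, tr ρ σ r (ρ a (ρ (σ ^ j) u)) =
          if ty (ρ (σ ^ j) u) a then (r : F) • ρ a (ρ (σ ^ j) u) else 0 := by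
        intro j
        split_ifs with hj
        · exact tr_of_fixed hj
        · rw [rep_rep]
          exact (hu a (hs a (mem_insert_self a s)) j).resolve_left (by rwa [← rep_rep])
      rw [sum_congr rfl fun j _ => h2 j, ← sum_filter, filter_filter, ← smul_sum, ← map_sum] at h1
      have h3 := (ρ.apply_bijective a).1 (((smul_eq_zero.1 h1).resolve_left hrF).trans
        (map_zero _).symm)
      rw [← h3]
      refine sum_congr (filter_congr fun j _ => ?_) fun _ _ => rfl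
      rw [forall_mem_insert, and_comm]
  obtain ⟨s, hs⟩ : ∃ s : Finset Γ, ∀ a, a ∈ s ↔ a ∈ D ∧ ty u a :=
    ⟨(Set.toFinite {a | a ∈ D ∧ ty u a}).toFinset, fun a => Set.Finite.mem_toFinset _⟩
  have h1 := key s fun a ha => ((hs a).1 ha).1
  obtain ⟨j, hjr, j0, hj⟩ : ∃ j ∈ range r, j ≠ 0 ∧ ∀ a ∈ s, ty (ρ (σ ^ j) u) a := by
    by_contra hc
    rw [sum_eq_single_of_mem 0 (mem_filter.2 ⟨mem_range.2 hr.pos, fun a ha => by
      simpa using ((hs a).1 ha).2⟩)
      fun j hj j0 => absurd ⟨j, (mem_filter.1 hj).1, j0, (mem_filter.1 hj).2⟩ hc] at h1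
    simp only [pow_zero, map_one, Module.End.one_apply] at h1
    exact hfix (by rw [h1, map_zero])
  -- conjugation by `σ ^ j` preserves the type
  have conj : ∀ (n : ℕ) (a : Γ), ty u ((σ ^ n)⁻¹ * a * σ ^ n) ↔ ty (ρ (σ ^ n) u) a := by
    intro n a
    simp only [ty]
    rw [mul_assoc, ← rep_rep (σ ^ n)⁻¹, apply_comm (rep_comm (Commute.pow_right
      (Commute.refl σ) n).inv_right.eq), (ρ.apply_bijective _).1.eq_iff, rep_rep a]
  have h2 : ∀ (n : ℕ) (a : Γ), a ∈ D → ty u a → ty u ((σ ^ (j * n))⁻¹ * a * σ ^ (j * n)) := by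
    intro n
    induction n with
    | zero => intro a _ ha; simpa using ha
    | succ n ih =>
      intro a ha hu
      have h3 := (conj j _).2 (hj _ ((hs _).2
        ⟨(mem_normalizer_iff''.1 (pow_mem hD (j * n)) a).1 ha, ih a ha hu⟩))
      rwa [show (σ ^ j)⁻¹ * ((σ ^ (j * n))⁻¹ * a * σ ^ (j * n)) * σ ^ j =
        (σ ^ (j * (n + 1)))⁻¹ * a * σ ^ (j * (n + 1)) by rw [mul_add, pow_add]; group] at h3
  obtain ⟨n, -, hn⟩ := Nat.exists_mul_mod_eq_one_of_coprime
    ((Nat.coprime_of_lt_prime j0 (mem_range.1 hjr) hr).symm) hr.one_lt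
  have h3 := (conj _ _).1 (h2 n g hg h)
  rw [← Nat.mod_add_div (j * n) r, hn, pow_add, pow_mul, hσ, one_pow, mul_one, pow_one] at h3
  simpa only [ty, rep_rep g] using h3

/-- a fixed vector whose translates are fixed or have trace zero is fixed by `[D, σ]` -/
theorem good_fixed [Finite Γ] [FiniteDimensional F W] (hr : r.Prime) (hσ : σ ^ r = 1)
    (hrF : (r : F) ≠ 0) {D : Subgroup Γ} (hD : σ ∈ 𝒩(D)) (hc : ¬ r ∣ Nat.card D) {v : W}
    (hv : Good ρ σ r ⊥ D v) : v ∈ fixSp ρ ⁅D, zpowers σ⁆ := by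
  let ty : W → Γ → Prop := fun w a => ρ σ (ρ a w) = ρ a w
  have hD' : zpowers σ ≤ 𝒩(D) := zpowers_le.2 hD
  have orb : ∀ a ∈ D, ∀ j : ℕ, ∃ b ∈ D, ρ (σ ^ j) (ρ a v) = ρ b v := fun a ha j =>
    ⟨_, (mem_normalizer_iff.1 (pow_mem hD j) a).1 ha, by
      rw [← rep_rep, ← rep_rep, ← pow_fixed hv.1 j, Representation.inv_self_apply,
        pow_fixed hv.1]⟩
  have h1 : ∀ a ∈ D, ∀ g ∈ D, ty (ρ a v) g → ty (ρ σ (ρ a v)) g := by
    intro a ha g hg h
    have := good_type hr hσ hrF hD (u := ρ a v) (fun g hg j => by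
      obtain ⟨b, hb, e⟩ := orb a ha j
      rw [← rep_rep, e, rep_rep g]
      exact hv.2 _ (mul_mem hg hb)) hg h
    rwa [← rep_rep] at this
  have h2 : ∀ j : ℕ, ∀ a ∈ D, ∀ g ∈ D, ty (ρ a v) g → ty (ρ (σ ^ j) (ρ a v)) g := by
    intro j
    induction j with
    | zero => intro a _ g _ h; simpa using h
    | succ j ih =>
      intro a ha g hg h
      obtain ⟨b, hb, e⟩ := orb a ha j
      have := ih a ha g hg h
      rw [pow_succ', ← rep_rep, e] at *
      exact h1 b hb g hg this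
  have h3 : ∀ c ∈ zpowers σ, ∀ a ∈ D, ∀ g ∈ D, ty (ρ a v) g ↔ ty (ρ c (ρ a v)) g := by
    intro c hc a ha g hg
    obtain ⟨j, rfl⟩ := mem_powers_iff_mem_zpowers.2 hc
    refine ⟨h2 j a ha g hg, fun h => ?_⟩
    obtain ⟨i, hi⟩ := mem_powers_iff_mem_zpowers.2 (inv_mem hc)
    obtain ⟨b, hb, e⟩ := orb a ha j
    simp only at hi h
    rw [e] at h
    have := h2 i b hb g hg h
    rwa [← e, hi, Representation.inv_self_apply] at this
  have h4 : ∀ d ∈ ⁅D, zpowers σ⁆, d ∈ D ∧ ∀ a ∈ D, ∀ g ∈ D, ty (ρ a v) g ↔ ty (ρ d (ρ a v)) g := by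
    intro d hd
    refine ⟨commutator_le_of_le_normalizer hD' hd, ?_⟩
    have sh : ∀ (w : W) (a g : Γ), ty (ρ a w) g ↔ ty w (g * a) := fun w a g => by
      simp only [ty, rep_rep g]
    induction hd using closure_induction with
    | mem d hd =>
      obtain ⟨b, hb, c, hc, rfl⟩ := hd
      intro a ha g hg
      obtain ⟨i, hi⟩ := mem_powers_iff_mem_zpowers.2 (inv_mem hc)
      obtain ⟨a', ha', e⟩ := orb a ha i
      simp only at hi
      rw [commutatorElement_def, ← rep_rep, ← rep_rep, ← rep_rep, ← hi, e, sh _ b, rep_rep b⁻¹,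
        ← h3 c hc _ (mul_mem (inv_mem hb) ha') _ (mul_mem hg hb), ← rep_rep, sh _ b⁻¹,
        mul_inv_cancel_right, ← e, hi]
      exact h3 _ (inv_mem hc) a ha g hg
    | one => intro a _ g _; simp
    | mul x y hx hy ihx ihy =>
      intro a ha g hg
      rw [ihy a ha g hg, ← rep_rep x, rep_rep y]
      exact ihx _ (mul_mem (commutator_le_of_le_normalizer hD' hy) ha) g hg
    | inv x hx ih =>
      intro a ha g hg
      rw [rep_rep x⁻¹, ih _ (mul_mem (inv_mem (commutator_le_of_le_normalizer hD' hx)) ha) g hg,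
        rep_rep, mul_inv_cancel_left]
  let U := orbSp ρ ⁅D, zpowers σ⁆ (Submodule.span F {v})
  have h5 : zpowers σ ≤ kerOn ρ U := by
    refine zpowers_le.2 (mem_kerOn_orbSp.2 fun d hd => ?_)
    rintro _ ⟨w, hw, rfl⟩
    obtain ⟨c, rfl⟩ := Submodule.mem_span_singleton.1 hw
    have := ((h4 d hd).2 1 D.one_mem 1 D.one_mem).1 (by simpa [ty] using hv.1)
    simp only [ty, map_one, Module.End.one_apply] at this
    rw [map_smul, map_smul, this]
  have h6 := commutator_le_kerOn (le_stab_orbSp ρ _ _) h5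
  rw [commutator_commutator_eq hD' (cop_of_not_dvd hr hσ hc)] at h6
  exact fun d hd => h6 hd v (le_orbSp ρ _ _ (Submodule.mem_span_singleton_self v))

/-- images of fixed vectors under a map killing `A` are fixed by `[D, σ]` -/
theorem PP.fixed [Finite Γ] [FiniteDimensional F W] (hr : r.Prime) (hσ : σ ^ r = 1)
    (hrF : (r : F) ≠ 0) {A : Submodule F W} {D : Subgroup Γ} (h : PP ρ σ r A D) (hD : σ ∈ 𝒩(D))
    (hc : ¬ r ∣ Nat.card D) {π : Module.End F W} (hπ : π * ρ σ = ρ σ * π)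
    (hπD : ∀ g ∈ D, π * ρ g = ρ g * π) (hA : ∀ a ∈ A, π a = 0) {w : W} (hw : w ∈ LinearMap.range π)
    (hfix : ρ σ w = w) : w ∈ fixSp ρ ⁅D, zpowers σ⁆ := by
  obtain ⟨u, rfl⟩ := hw
  rw [← (fixSp ρ _).smul_mem_iff hrF, ← tr_of_fixed hfix, ← tr_comm hπ]
  refine h.ind (U := (fixSp ρ _).comap π) (fun a ha => ?_) (fun v hv => ?_) (tr_fixed hσ u)
  · rw [Submodule.mem_comap, hA a ha]
    exact zero_mem _
  · refine good_fixed hr hσ hrF hD hc ⟨by rw [← apply_comm hπ, hv.1], fun g hg => ?_⟩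
    rw [← apply_comm (hπD g hg), ← apply_comm hπ, ← tr_comm hπ]
    exact (hv.2 g hg).imp (fun e => by rw [e]) fun e => hA _ e

/-- a `q`-group `D = [D, σ]` fixing the fixed vectors of `σ` in `U` fixes `U`, if `q` is odd or
`D` acts as an abelian group -/
theorem le_kerOn_of_fix [Finite Γ] [FiniteDimensional F W] (hr : r.Prime) (hσ : σ ^ r = 1)
    {q : ℕ} (hq : q.Prime) (hqr : q ≠ r) (hqF : (q : F) ≠ 0) {D : Subgroup Γ} (hD : IsPGroup q D)
    (hσD : σ ∈ 𝒩(D)) (hDD : D ≤ ⁅D, zpowers σ⁆) {U : Submodule F W} (hU : D ≤ stab ρ U)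
    (hσU : σ ∈ stab ρ U) (hfix : ∀ w ∈ U, ρ σ w = w → w ∈ fixSp ρ D)
    (hodd : q ≠ 2 ∨ ∀ a ∈ D, ∀ b ∈ D, ∀ w ∈ U, ρ a (ρ b w) = ρ b (ρ a w)) : D ≤ kerOn ρ U := by
  have := Fact.mk hq
  have hc : (Nat.card D : F) ≠ 0 := card_ne_zero_of_isPGroup hqF hD
  set U' := U ⊓ LinearMap.ker (av ρ D)
  have hU' : D ≤ stab ρ U' := fun g hg => stab_inf (hU hg) (le_stab_ker_av (le_normalizer hg))
  have hσU' : σ ∈ stab ρ U' := stab_inf hσU (le_stab_ker_av hσD)
  have h1 : ∀ g : stab ρ U', (g : Γ) ∈ D → subRep ρ U' ⟨σ, hσU'⟩ * subRep ρ U' g =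
      subRep ρ U' g * subRep ρ U' ⟨σ, hσU'⟩ := by
    by_contra hc'
    push Not at hc'
    obtain ⟨e, -, a, ha, b, hb, hab⟩ := fermat_of_fpf_rep (subRep ρ U') hq hr hqr.symm hqF
      (Q := D.subgroupOf (stab ρ U')) hD.comap_subtype (x := ⟨σ, hσU'⟩)
      (mem_normalizer_subgroupOf hσD) (by
        rw [← map_pow, show (⟨σ, hσU'⟩ : stab ρ U') ^ r = 1 from Subtype.ext hσ, map_one])
      (fun v hv => Subtype.ext (eq_zero_of_av hc v.2.2
        (hfix _ v.2.1 (congrArg Subtype.val hv)))) hc'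
    exact hab (LinearMap.ext fun w => Subtype.ext (hodd.resolve_left (· e) a ha b hb w w.2.1))
  have h2 : D ≤ kerOn ρ U' := by
    refine hDD.trans (commutator_le.2 fun g hg c hc => ?_)
    obtain ⟨n, rfl⟩ := mem_zpowers_iff.1 hc
    exact (subRep_comm_iff ρ U' ⟨g, hU' hg⟩ (⟨σ, hσU'⟩ ^ n)).1 (by
      have : Commute ((subRep ρ U').toHomUnits ⟨g, hU' hg⟩) ((subRep ρ U').toHomUnits ⟨σ, hσU'⟩) :=
        Units.ext (h1 _ hg).symm
      have := congrArg Units.val (this.zpow_right n).eq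
      rwa [← map_zpow] at this)
  exact le_kerOn_of_ker_av hc hU fun w hw h0 g hg => h2 hg w ⟨hw, h0⟩

end CfsgLib.Tur
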