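import Cfsg.Agent.Lib.Tur.Bad

/-!
# The junction: a layer of the tower of the fixed points acting on a lower layer
-/

set_option autoImplicit false

namespace CfsgLib.Tur

open Subgroup Module CfsgLib.HH CfsgLib.FPF CfsgLib.Coprime
open scoped commutatorElement

variable {F : Type*} [Field F] {Γ : Type*} [Group Γ] {W : Type*} [AddCommGroup W] [Module F W]
variable {ρ : Representation F Γ W} {σ : Γ} {r : ℕ}

theorem sub_one_comm {a b : Γ} (h : a * b = b * a) : (ρ a - 1) * ρ b = ρ b * (ρ a - 1) := by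
  rw [sub_mul, mul_sub, rep_comm h, one_mul, mul_one]

theorem mem_stab_range [FiniteDimensional F W] {π : Module.End F W} {g : Γ}
    (h : π * ρ g = ρ g * π) : g ∈ stab ρ (LinearMap.range π) := by
  rintro _ ⟨w, rfl⟩
  exact ⟨_, apply_comm h w⟩

theorem mem_kerOn_range_symm {a b : Γ} (h : a * b = b * a)
    (h' : a ∈ kerOn ρ (LinearMap.range (ρ b - 1))) : b ∈ kerOn ρ (LinearMap.range (ρ a - 1)) := by
  rintro _ ⟨w, rfl⟩
  have := h' _ ⟨w, rfl⟩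
  simp only [LinearMap.sub_apply, Module.End.one_apply, map_sub] at this ⊢
  rw [← apply_comm (rep_comm h), sub_eq_sub_iff_sub_eq_sub, this]

theorem eq_one_of_mem_kerOn_range (hρ : ∀ g, ρ g = 1 → g = 1) {q : ℕ} (hqF : (q : F) ≠ 0)
    {D : Subgroup Γ} (hD : IsPGroup q D) {k : Γ} (hk : k ∈ D)
    (h : k ∈ kerOn ρ (LinearMap.range (ρ k - 1))) : k = 1 := by
  obtain ⟨n, hn⟩ := Core.isPGroup_subgroup_iff.1 hD k hk
  exact hρ k (eq_one_of_stable (ρ k) (q ^ n) (by rw [← map_pow, hn, map_one])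
    (by exact_mod_cast pow_ne_zero n hqF) _ h fun v => ⟨v, rfl⟩)

theorem cent_le_norm {X Y Z : Subgroup Γ} (h : X ≤ 𝒞(Y)) (hZ : Z ≤ Y) : X ≤ 𝒩(Z) :=
  (h.trans (centralizer_le (SetLike.coe_subset_coe.2 hZ))).trans (centralizer_le_normalizer _)

theorem le_normalizer_inf {X Y Z : Subgroup Γ} (h : X ≤ 𝒩(Y)) (h' : X ≤ 𝒩(Z)) : X ≤ 𝒩(Y ⊓ Z) :=
  (le_inf h h').trans inf_normalizer_le_normalizer_inf

theorem mem_cz_self : σ ∈ 𝒞(zpowers σ) := mem_cz.2 rfl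

variable [Finite Γ]

theorem not_dvd_card_of_isPGroup (hr : r.Prime) {q : ℕ} (hq : q.Prime) (hqr : q ≠ r)
    {Q : Subgroup Γ} (hQ : IsPGroup q Q) : ¬ r ∣ Nat.card Q :=
  have := Fact.mk hq
  (Nat.Prime.coprime_iff_not_dvd hr).1
    (coprime_card_of_isPGroup hQ ((Nat.coprime_primes hr hq).2 hqr.symm))

theorem cop_card {q s : ℕ} (hq : q.Prime) (hs : s.Prime) (hsq : s ≠ q) {Q S : Subgroup Γ}
    (hQ : IsPGroup q Q) (hS : IsPGroup s S) : (Nat.card S).Coprime (Nat.card Q) :=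
  have := Fact.mk hq
  have := Fact.mk hs
  coprime_card_of_isPGroup hQ
    (Core.isPGroup_coprime_card hS ((Nat.coprime_primes hq hs).2 hsq.symm))

variable [FiniteDimensional F W]

theorem comm_le_kerOn_range (hr : r.Prime) (hσ : σ ^ r = 1) (hrF : (r : F) ≠ 0) {q : ℕ}
    (hq : q.Prime) (hqr : q ≠ r) (hqF : (q : F) ≠ 0) {E : Subgroup Γ} (hE : IsPGroup q E)
    (hσE : σ ∈ 𝒩(E)) {A : Submodule F W} (hP : PP ρ σ r A E) {x : Γ} (hxA : x ∈ kerOn ρ A)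
    (hxσ : x ∈ 𝒞(zpowers σ)) (hxE : x ∈ 𝒞(E)) (hodd : q ≠ 2 ∨ E ≤ 𝒞(E)) :
    ⁅E, zpowers σ⁆ ≤ kerOn ρ (LinearMap.range (ρ x - 1)) := by
  have hle : ⁅E, zpowers σ⁆ ≤ E := commutator_le_of_le_normalizer (zpowers_le.2 hσE)
  have h1 : ∀ g ∈ E, (ρ x - 1) * ρ g = ρ g * (ρ x - 1) := fun g hg => sub_one_comm (hxE g hg).symm
  have h2 : (ρ x - 1) * ρ σ = ρ σ * (ρ x - 1) := sub_one_comm (mem_cz.1 hxσ).symm
  exact le_kerOn_of_fix hr hσ hq hqr hqF (hE.to_le hle)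
    (normalizer_commutator_ge_right _ _ (mem_zpowers σ))
    (commutator_commutator_eq (zpowers_le.2 hσE) (cop_of_isPGroup hr hσ hq hqr hE)).ge
    (fun g hg => mem_stab_range (h1 g (hle hg))) (mem_stab_range h2)
    (fun w hw => hP.fixed hr hσ hrF hσE (not_dvd_card_of_isPGroup hr hq hqr hE) h2 h1
      (fun a ha => by rw [LinearMap.sub_apply, hxA a ha, Module.End.one_apply, sub_self]) hw)
    (hodd.imp_right fun h a ha b hb w _ => apply_comm (rep_comm (h (hle hb) a (hle ha))) w)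

theorem crit_quot [IsAlgClosed F] (hρ : ∀ g, ρ g = 1 → g = 1) (hr : r.Prime) (hσ : σ ^ r = 1)
    (hrF : (r : F) ≠ 0) {q s k : ℕ} (hq : q.Prime) (hs : s.Prime) (hqr : q ≠ r) (hsr : s ≠ r)
    (hsq : s ≠ q) (hqF : (q : F) ≠ 0) {D Z : Subgroup Γ} (hD : IsPGroup q D) (hZD : Z ≤ D)
    (hDZ : ⁅D, D⁆ ≤ Z) (hZ : Z ≤ 𝒞(D)) (hne : ⁅D, D⁆ ≠ ⊥) {x : Γ} (hx : x ∈ 𝒩(D))
    (hσD : σ ∈ 𝒩(D)) (hxσ : Commute x σ) (hxk : x ^ s ^ k = 1) (hxs : x ^ s ∈ 𝒞(D))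
    (hxZ : x ∈ 𝒞(Z)) (hσZ : σ ∈ 𝒞(Z)) (hfx : ∀ g ∈ D, x * g = g * x → g ∈ Z)
    (hfσ : ∀ g ∈ D, σ * g = g * σ → g ∈ Z)
    (hrad : ∀ N ≤ Z, ¬ ⁅D, D⁆ ≤ N → D ⊓ Core.commutatorStabilizer D N ≤ Z)
    {A : Submodule F W} (hP : PP ρ σ r A D) (hxA : x ∈ kerOn ρ A) :
    s = 2 ∧ ∃ N, N + 1 = 2 * r ∧ N ^ 2 = Z.relIndex D := by
  have := Fact.mk hq
  have hN := normalizer_le_normalizer_commutator_self D
  obtain ⟨U, ⟨hfU, hUt, hDU, hxU, hσU⟩, hmax⟩ := exists_maximal_of_wellFoundedGT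
    (fun U : Submodule F W => fixSp ρ ⁅D, D⁆ ≤ U ∧ U ≠ ⊤ ∧ D ≤ stab ρ U ∧ x ∈ stab ρ U ∧
      σ ∈ stab ρ U)
    ⟨fixSp ρ ⁅D, D⁆, le_rfl, fun h => hne (eq_bot_iff.2 fun g hg => hρ g
      (LinearMap.ext fun w => h.ge trivial g hg)), le_normalizer.trans (hN.trans le_stab_fixSp),
      le_stab_fixSp (hN hx), le_stab_fixSp (hN hσD)⟩
  let τ := quotRep ρ U
  have hτ : ∀ g w, τ g (U.mkQ w) = U.mkQ (ρ g w) := quotRep_apply ρ U
  have : Nontrivial (W ⧸ U) := Submodule.Quotient.nontrivial_iff.2 hUt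
  have hirr : ∀ V : Submodule F (W ⧸ U), D.subgroupOf _ ≤ stab τ V → ⟨x, hxU⟩ ∈ stab τ V →
      ⟨σ, hσU⟩ ∈ stab τ V → V = ⊥ ∨ V = ⊤ := by
    intro V h1 h2 h3
    have h4 : ∀ g : stab ρ U, g ∈ stab τ V → (g : Γ) ∈ stab ρ (V.comap U.mkQ) := fun g hg w hw => by
      rw [Submodule.mem_comap, ← hτ]
      exact hg _ hw
    have h5 : U ≤ V.comap U.mkQ := Submodule.le_comap_mkQ U V
    refine or_iff_not_imp_right.2 fun h => eq_bot_iff.2 fun v hv => ?_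
    obtain ⟨w, rfl⟩ := U.mkQ_surjective v
    exact (Submodule.Quotient.mk_eq_zero U).2 (hmax ⟨hfU.trans h5, fun h' => h (eq_top_iff.2
      fun v _ => by obtain ⟨w, rfl⟩ := U.mkQ_surjective v; exact h'.ge trivial),
      fun g hg => h4 ⟨g, hDU hg⟩ (h1 hg), h4 _ h2, h4 _ h3⟩ h5 hv)
  have hZs : ∀ z : stab ρ U, (z : Γ) ∈ Z → z ∈ scal τ := by
    intro z hz
    obtain ⟨c, hc⟩ := schur_scalar (τ '' {g | (g : Γ) ∈ D ∨ (g : Γ) = x ∨ (g : Γ) = σ})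
      (fun V hV => hirr V (fun g hg => hV _ ⟨g, Or.inl hg, rfl⟩)
        (hV _ ⟨_, Or.inr (Or.inl rfl), rfl⟩) (hV _ ⟨_, Or.inr (Or.inr rfl), rfl⟩)) (τ z) (by
      rintro _ ⟨g, hg, rfl⟩
      refine rep_comm (Subtype.ext ?_)
      change (g : Γ) * z = z * g
      rcases hg with hg | hg | hg
      · exact hZ hz g hg
      · exact hg ▸ (hxZ z hz).symm
      · exact hg ▸ (hσZ z hz).symm)
    exact mem_scal_of_eq_smul hc
  have hD'D : ⁅D, D⁆ ≤ D := hDZ.trans hZD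
  have hN₀ : ¬ ⁅D, D⁆ ≤ Z ⊓ τ.ker.map (stab ρ U).subtype := by
    intro h
    refine hUt (eq_top_iff.2 fun w _ => ?_)
    have := Fintype.ofFinite ↥⁅D, D⁆
    have h1 : U.mkQ (av ρ ⁅D, D⁆ w) = (Nat.card ↥⁅D, D⁆ : F) • U.mkQ w := by
      rw [av_apply, map_sum, Finset.sum_congr rfl fun (g : ↥⁅D, D⁆) _ => show
        U.mkQ (ρ g w) = U.mkQ w by
          obtain ⟨g', hg', e⟩ := (h g.2).2
          rw [← e, Subgroup.coe_subtype, ← hτ, show τ g' = 1 from hg', Module.End.one_apply],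
        Finset.sum_const, Finset.card_univ, Nat.card_eq_fintype_card, Nat.cast_smul_eq_nsmul]
    rw [show U.mkQ _ = 0 from (Submodule.Quotient.mk_eq_zero U).2 (hfU (av_mem_fixSp w))] at h1
    exact (Submodule.Quotient.mk_eq_zero U).1 ((smul_eq_zero.1 h1.symm).resolve_left
      (card_ne_zero_of_isPGroup hqF (hD.to_le hD'D)))
  have key : ∀ a : stab ρ U, (a : Γ) ∈ D →
      (∀ b ∈ D.subgroupOf (stab ρ U), τ a * τ b = τ b * τ a) → (a : Γ) ∈ Z := fun a ha h =>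
    hrad _ inf_le_left hN₀ ⟨ha, cent_le_norm (le_centralizer_iff.1 hZ) inf_le_left ha,
      fun c hc => ⟨hDZ (commutator_mem_commutator ha hc), _,
        (comm_iff_apply_eq_one τ a ⟨c, hDU hc⟩).1 (h _ hc), rfl⟩⟩
  have hsZ : ∀ a : stab ρ U, (a : Γ) ∈ D → a ∈ scal τ → (a : Γ) ∈ Z := fun a ha h =>
    key a ha fun b _ => scal_comm h _
  have hDN : D ≤ 𝒩(Z) := cent_le_norm (le_centralizer_iff.1 hZ) le_rfl
  have fp : ∀ y : stab ρ U, (y : Γ) ∈ 𝒩(D) → (y : Γ) ∈ 𝒞(Z) →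
      (orderOf (y : Γ)).Coprime (Nat.card Z) → (∀ g ∈ D, y * g = g * y → g ∈ Z) →
      ∀ a ∈ D.subgroupOf (stab ρ U), y * a * y⁻¹ * a⁻¹ ∈ scal τ → a ∈ scal τ :=
    fun y h1 h2 h3 h4 a ha h => hZs a (mem_of_comm_mem hZD hDN (centralizer_le_normalizer _ h2)
      h3 h4 ha (hsZ _ (D.mul_mem ((mem_normalizer_iff.1 h1 _).1 ha) (D.inv_mem ha)) h))
  obtain ⟨h1, N, h2, h3⟩ := crit (ρ := τ) (σ := ⟨σ, hσU⟩) (x := ⟨x, hxU⟩) (k := k)
    (D := D.subgroupOf _) hr (Subtype.ext hσ) hrF hq hs hqr hsr hqF hD.comap_subtype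
    (fun a ha b hb => hZs _ (hDZ (commutator_mem_commutator ha hb)))
    (fun a ha h => hZs a (key a ha h))
    (fun h => hne (commutator_eq_bot_iff_le_centralizer.2 fun g hg =>
      hZ (hsZ ⟨g, hDU hg⟩ hg (h hg))))
    (mem_normalizer_subgroupOf hx) (mem_normalizer_subgroupOf hσD) (Subtype.ext hxσ)
    (Subtype.ext hxk) (fun g hg => Subtype.ext (hxs g hg))
    (fp _ hx hxZ (coprime_orderOf_of_pow_eq_one hs hsq (hD.to_le hZD) hxk) hfx)
    (fp _ hσD hσZ (coprime_orderOf_of_pow_eq_one hr hqr.symm (hD.to_le hZD) (n := 1)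
      (by simpa using hσ)) hfσ) hirr
    (hP.map hσ hrF U.mkQ U.mkQ_surjective (fun w => (hτ ⟨σ, hσU⟩ w).symm)
      fun g hg => ⟨g, hg, fun w => (hτ g w).symm⟩)
    (by rintro _ ⟨a, ha, rfl⟩; rw [hτ, hxA a ha])
  refine ⟨h1, N, h2, ?_⟩
  rw [h3, ← inf_relIndex_right, ← relIndex_subgroupOf (H := Z) hDU]
  congr 1
  ext a
  exact ⟨fun h => hsZ a h.2 h.1, fun h => ⟨hZs a h, hZD h⟩⟩

omit [Finite Γ] in
theorem exists_pow_mem {s : ℕ} {S C : Subgroup Γ} (hS : IsPGroup s S) (h : ¬ S ≤ C) :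
    ∃ x ∈ S, x ∉ C ∧ x ^ s ∈ C := by
  obtain ⟨y, hy, hyC⟩ := SetLike.not_le_iff_exists.1 h
  obtain ⟨k, hk⟩ := Core.isPGroup_subgroup_iff.1 hS y hy
  replace hk : y ^ s ^ k ∈ C := hk ▸ one_mem _
  induction k with
  | zero => exact absurd (by simpa using hk) hyC
  | succ k ih =>
    by_cases h1 : y ^ s ^ k ∈ C
    · exact ih h1
    · exact ⟨_, pow_mem hy _, h1, by rwa [← pow_mul, ← pow_succ]⟩

/-- the core of the junction -/
theorem jc [IsAlgClosed F] (hρ : ∀ g, ρ g = 1 → g = 1) (hr : r.Prime) (hσ : σ ^ r = 1)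
    (hrF : (r : F) ≠ 0) {q s : ℕ} (hq : q.Prime) (hs : s.Prime) (hqr : q ≠ r) (hsr : s ≠ r)
    (hsq : s ≠ q) (hqF : (q : F) ≠ 0) {D H S : Subgroup Γ} (hD : IsPGroup q D) (hS : IsPGroup s S)
    (hSH : S ≤ H) (hHS : H ≤ 𝒩(S)) (hHσ : H ≤ 𝒞(zpowers σ)) (hHD : H ≤ 𝒩(D)) (hσD : σ ∈ 𝒩(D))
    (hne : ¬ S ≤ 𝒞(D)) (hmin : ∀ E < D, H ≤ 𝒩(E) → σ ∈ 𝒩(E) → S ≤ 𝒞(E))
    (hσne : ¬ D ≤ 𝒞(zpowers σ)) {A : Submodule F W} (hP : PP ρ σ r A D) (hSA : S ≤ kerOn ρ A)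
    (hHA : ⁅D ⊓ 𝒞(zpowers σ), H⁆ ≤ kerOn ρ A)
    (hcase : q ≠ 2 ∧ S ≤ ⁅H, H⁆ ∨ q = 2 ∧ H ≤ S ∧ H ≤ 𝒞(H)) : False := by
  have := Fact.mk hq
  have hSσ := hSH.trans hHσ
  have hSD := hSH.trans hHD
  have hzD : zpowers σ ≤ 𝒩(D) := zpowers_le.2 hσD
  have hσH : zpowers σ ≤ 𝒞(H) := le_centralizer_iff.1 hHσ
  obtain ⟨hDS, h2, hSD', -, hCS⟩ := minimal_special hD (S := H ⊔ zpowers σ) (R := S)
    (sup_le hHD hzD) hSD (sup_le hHS (cent_le_norm hσH hSH)) (cop_card hq hs hsq hD hS) hne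
    fun E hE h1 _ => hmin E hE (le_sup_left.trans h1) (h1 (mem_sup_right (mem_zpowers σ)))
  have hcQ := cop_of_isPGroup hr hσ hq hqr hD
  set Z := D ⊓ 𝒞(zpowers σ) with hZ
  have hHZ : H ≤ 𝒩(Z) := le_normalizer_inf hHD (hHσ.trans le_normalizer)
  have hσZ : σ ∈ 𝒞(Z) := le_centralizer_iff.1 inf_le_right (mem_zpowers σ)
  have hSZ : S ≤ 𝒞(Z) := hmin Z (inf_lt_left.2 hσne) hHZ (centralizer_le_normalizer _ hσZ)
  have hZD : Z ≤ 𝒞(D) := (le_inf inf_le_left (le_centralizer_iff.1 hSZ)).trans hCS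
  have hDσ : ⁅D, zpowers σ⁆ = D := by
    by_contra h
    have := hmin _ ((commutator_le_of_le_normalizer hzD).lt_of_ne h)
      ((le_inf hHD (hHσ.trans (centralizer_le_normalizer _))).trans
        (Core.normalizer_inf_le_normalizer_commutator _ _))
      (normalizer_commutator_ge_right _ _ (mem_zpowers σ))
    refine hne ?_
    rw [← commutator_sup_centralizer hzD hcQ (Or.inl (isSolvable_zpowers σ)), Core.centralizer_sup]
    exact le_inf this hSZ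
  have hHZ' : H ≤ 𝒞(Z) := by
    rcases hcase with ⟨hq2, -⟩ | ⟨-, h, -⟩
    · rw [le_centralizer_iff, ← commutator_eq_bot_iff_le_centralizer, eq_bot_iff]
      intro k hk
      have hkZ : k ∈ Z := commutator_le_of_le_normalizer hHZ hk
      have := comm_le_kerOn_range hr hσ hrF hq hqr hqF hD hσD hP (hHA hk) hkZ.2 (hZD hkZ)
        (Or.inl hq2)
      rw [hDσ] at this
      exact eq_one_of_mem_kerOn_range hρ hqF hD hkZ.1 (this hkZ.1)
    · exact h.trans hSZ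
  obtain ⟨x, hxS, hxD, hxs⟩ := exists_pow_mem hS hne
  obtain ⟨k, hxk⟩ := Core.isPGroup_subgroup_iff.1 hS x hxS
  have hxz : zpowers x ≤ S := zpowers_le.2 hxS
  have hcx : (Nat.card (zpowers x)).Coprime (Nat.card D) := cop_card hq hs hsq hD (hS.to_le hxz)
  have hTD : ⁅D, zpowers x⁆ ≤ D := commutator_le_of_le_normalizer (hxz.trans hSD)
  have hσx : σ ∈ 𝒞(zpowers x) := le_centralizer_iff.1 (hxz.trans hSσ) (mem_zpowers σ)
  have hxσ : Commute x σ := (mem_cz.1 hσx)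
  by_cases hab : D ≤ 𝒞(D)
  · have : IsMulCommutative D := le_centralizer_iff_isMulCommutative.1 hab
    have h1 : ∀ d ∈ ⁅D, zpowers x⁆, x * d = d * x → d = 1 := fun d hd e =>
      (fitting_decomposition (hxz.trans hSD) hcx).1.le ⟨⟨hTD hd, mem_cz.2 e⟩, hd⟩
    have h3 := abelian_case hr hσ hrF (card_ne_zero_of_isPGroup hqF (hD.to_le hTD))
      (not_dvd_card_of_isPGroup hr hq hqr (hD.to_le hTD)) (hP.mono hTD)
      ((hTD.trans hab).trans (centralizer_le (SetLike.coe_subset_coe.2 hTD)))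
      (normalizer_commutator_ge_right _ _ (mem_zpowers x))
      (Core.normalizer_inf_le_normalizer_commutator _ _ ⟨hσD, centralizer_le_normalizer _ hσx⟩)
      (hSA hxS) (fun j d hd e => h1 d hd ?_)
      fun d hd e => h1 d hd (hSZ hxS d ⟨hTD hd, mem_cz.2 e⟩).symm
    · exact hxD (le_centralizer_iff.1 (commutator_eq_bot_iff_le_centralizer.1
        (eq_bot_iff.2 fun d hd => hρ d (h3 d hd))) (mem_zpowers x))
    · have h4 := pow_mem (mem_centralizer_singleton_iff.2 e) r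
      rw [(hxσ.pow_right j).mul_pow, ← pow_mul, mul_comm j, pow_mul, hσ, one_pow, mul_one] at h4
      exact mem_centralizer_singleton_iff.1 (mem_of_pow_mem_of_coprime
        ((((Nat.coprime_primes hs hr).2 hsr).pow_left k).coprime_dvd_left
          (orderOf_dvd_of_pow_eq_one hxk)) h4)
  set Z₀ := D ⊓ 𝒞(D)
  have hNZ₀ := normalizer_le_normalizer_inf_centralizer D
  have hSZ₀ : S ≤ 𝒞(Z₀) := hmin Z₀ (inf_lt_left.2 hab) (hHD.trans hNZ₀) (hNZ₀ hσD)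
  have hZ₀ : Z₀ ≤ Z := by
    refine le_inf inf_le_left (commutator_eq_bot_iff_le_centralizer.1 (eq_bot_iff.2 fun y hy => ?_))
    have hy0 : y ∈ Z₀ := commutator_le_of_le_normalizer (zpowers_le.2 (hNZ₀ hσD)) hy
    refine eq_one_of_mem_kerOn_range hρ hqF hD hy0.1 (commutator_le_kerOn
      (fun g hg => mem_stab_range (sub_one_comm (hy0.2 g hg).symm)) (fun t ht => ?_) (hDS.ge hy0.1))
    exact mem_kerOn_range_symm (hSZ₀ ht y hy0) (comm_le_kerOn_range hr hσ hrF hq hqr hqF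
      (hD.to_le inf_le_left) (hNZ₀ hσD) (hP.mono inf_le_left) (hSA ht) (hSσ ht) (hSZ₀ ht)
      (Or.inr (inf_le_right.trans (centralizer_le (SetLike.coe_subset_coe.2 inf_le_left)))) hy)
  have hD' : ⁅D, D⁆ ≤ Z := (le_inf (Core.commutator_le_of_le le_rfl le_rfl) h2).trans hZ₀
  have hmin' : ∀ E ≤ D, H ≤ 𝒩(E) → σ ∈ 𝒩(E) → E = D ∨ E ≤ Z := fun E hE h1 h3 =>
    hE.eq_or_lt.imp_right fun h => (le_inf hE
      ((le_inf hE (le_centralizer_iff.1 (hmin E h h1 h3))).trans hCS)).trans hZ₀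
  set E := D ⊓ 𝒞(zpowers x)
  have hσE : σ ∈ 𝒩(E) := inf_normalizer_le_normalizer_inf
    ⟨hσD, Core.normalizer_le_normalizer_centralizer _ (centralizer_le_normalizer _ hσx)⟩
  have hEZ : E ≤ Z := by
    rcases hcase with ⟨hq2, -⟩ | ⟨-, -, h⟩
    swap
    · refine (hmin' E inf_le_left (le_normalizer_inf hHD ((cent_le_norm h
        (hxz.trans hSH)).trans (Core.normalizer_le_normalizer_centralizer _))) hσE).resolve_left
        fun h => hxD (le_centralizer_iff.1 (h.ge.trans inf_le_right) (mem_zpowers x))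
    have hxE : x ∈ 𝒞(E) := le_centralizer_iff.1 inf_le_right (mem_zpowers x)
    have h3 := comm_le_kerOn_range hr hσ hrF hq hqr hqF (hD.to_le inf_le_left) hσE
      (hP.mono inf_le_left) (hSA hxS) (hSσ hxS) hxE (Or.inl hq2)
    have hD₁ : ⁅E, zpowers σ⁆ ≤ E := commutator_le_of_le_normalizer (zpowers_le.2 hσE)
    have h4 : ⁅E, ⁅E, zpowers σ⁆⁆ = ⊥ := by
      refine eq_bot_iff.2 fun y hy => ?_
      have hyZ := hD' (commutator_mono inf_le_left (hD₁.trans inf_le_left) hy)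
      have hy' := mem_kerOn_range_symm (hSZ hxS y hyZ) (commutator_le_kerOn
        (fun g hg => mem_stab_range (sub_one_comm (hxE g hg).symm)) h3 hy)
      have hst : ∀ g ∈ 𝒞(Z), g ∈ stab ρ (LinearMap.range (ρ y - 1)) := fun g hg =>
        mem_stab_range (sub_one_comm (hg y hyZ))
      have h5 : ⁅D, zpowers x⁆ ≤ D ⊓ kerOn ρ (LinearMap.range (ρ y - 1)) := le_inf hTD
        (commutator_le_kerOn (fun g hg => hst g (le_centralizer_iff.1 hZD hg)) (zpowers_le.2 hy'))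
      rcases hmin' _ (inf_le_left (b := kerOn ρ (LinearMap.range (ρ y - 1))))
        (le_normalizer_inf hHD fun g hg => stab_le_normalizer_kerOn ρ _ (hst g (hHZ' hg)))
        (inf_normalizer_le_normalizer_inf ⟨hσD, stab_le_normalizer_kerOn ρ _ (hst σ hσZ)⟩) with h | h
      · exact eq_one_of_mem_kerOn_range hρ hqF hD hyZ.1 (h.ge hyZ.1).2
      · exact absurd (le_centralizer_of_commutator_le_centralizer (hxz.trans hSD) hcx
          ((h5.trans h).trans (le_centralizer_iff.1 (hxz.trans hSZ))) (mem_zpowers x)) hxD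
    have h5 : ⁅⁅D, zpowers x⁆, E⁆ ≤ ⊥ := commutator_centralizer_commutator_le
      le_normalizer_of_normal le_normalizer_of_normal
      (commutator_eq_bot_iff_le_centralizer.2 (le_centralizer_iff.1 (hxz.trans hSD'))).le
    have h6 : ⁅E, zpowers σ⁆ ≤ 𝒞(D) := by
      rw [← commutator_sup_centralizer (hxz.trans hSD) hcx (Or.inl (isSolvable_zpowers x)),
        Core.centralizer_sup]
      exact le_inf (hD₁.trans (le_centralizer_iff.1 (commutator_eq_bot_iff_le_centralizer.1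
        (eq_bot_iff.2 h5)))) (le_centralizer_iff.1 (commutator_eq_bot_iff_le_centralizer.1 h4))
    exact le_inf inf_le_left (le_centralizer_iff.1 (le_centralizer_of_commutator_le_centralizer
      (zpowers_le.2 hσE) (hcQ.coprime_dvd_right (card_dvd_of_le inf_le_left))
      (((le_inf (hD₁.trans inf_le_left) h6).trans hZ₀).trans inf_le_right)))
  have hσC : ∀ g ∈ D, σ * g = g * σ → g ∈ Z := fun g hg e => ⟨hg, mem_cz.2 e⟩
  obtain ⟨rfl, N, hN, hi⟩ := crit_quot hρ hr hσ hrF hq hs hqr hsr hsq hqF hD inf_le_left hD' hZD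
    (fun h => hab (commutator_eq_bot_iff_le_centralizer.1 h)) (hSD hxS) hσD hxσ hxk hxs (hSZ hxS)
    hσZ (fun g hg e => hEZ ⟨hg, mem_cz.2 e⟩) hσC (fun N hN hne => by
      have h3 : ∀ g ∈ 𝒩(D), g ∈ 𝒞(Z) → g ∈ 𝒩(D ⊓ Core.commutatorStabilizer D N) :=
        fun g h1 h3 => Core.mem_normalizer_of_forall_conj_mem fun y hy =>
          ⟨(mem_normalizer_iff.1 h1 y).1 hy.1,
            conj_mem_commutatorStabilizer h1 (cent_le_norm le_rfl hN h3) hy.2⟩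
      exact (hmin' _ inf_le_left (fun g hg => h3 g (hHD hg) (hHZ' hg)) (h3 σ hσD hσZ)).resolve_left
        fun h => hne (Core.le_commutatorStabilizer_iff.1 (h.ge.trans inf_le_right)).2)
    hP (hSA hxS)
  obtain ⟨-, hSH'⟩ := hcase.resolve_right fun h => hsq h.1.symm
  have := Fact.mk hr
  have h3 := comm_mod_of_irred inf_le_left hD' hσD (centralizer_le_normalizer _ hσZ) hHD hHZ hHσ
    (irred_of_index hr hsr.symm (orderOf_eq_prime hσ (by
      rintro rfl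
      exact hσne fun g _ => mem_cz.2 (by simp))) hq hqr hD inf_le_left hσD
      (centralizer_le_normalizer _ hσZ) hσC hN hi)
  refine hab (hDS.ge.trans (le_trans ?_ (h3.trans hZD)))
  rw [commutator_comm]
  exact commutator_mono hSH' le_rfl

/-- the junction -/
theorem junction [IsAlgClosed F] (hρ : ∀ g, ρ g = 1 → g = 1) (hr : r.Prime) (hσ : σ ^ r = 1)
    (hrF : (r : F) ≠ 0) {p q m : ℕ} (hp : p.Prime) (hq : q.Prime) (hqp : q ≠ p) (hqr : q ≠ r)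
    (hqF : (q : F) ≠ 0) {Q C C' : Subgroup Γ} (hQ : IsPGroup q Q) (hσQ : σ ∈ 𝒩(Q))
    (hC : Group.IsSolvable C) (hCr : ¬ r ∣ Nat.card C) (hCσ : C ≤ 𝒞(zpowers σ))
    (hQC : Q ⊓ 𝒞(zpowers σ) ≤ C) (hC' : C' ≤ C) (hC'Q : C' ≤ 𝒩(Q)) {A : Submodule F W}
    (hP : PP ρ σ r A Q) (hA : pm p (fitSer m C) (kerOn ρ A)) (h0 : pm p (fitSer (m + 2) C) ⊥) :
    pm q (fitSer (m + 1) C') 𝒞(Q) := by
  by_contra hcon
  have hσC : zpowers σ ≤ 𝒞(C) := le_centralizer_iff.1 hCσ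
  obtain ⟨H₀, hH₀, -, s, S, hs, hsq, hSL, hS, -, hHS, -, hne⟩ := extract hr hσ hq (m + 1) C'
    (Core.isSolvable_of_le hC') (cent_le_norm hσC hC' (mem_zpowers σ))
    (fun h => hCr (h.trans (card_dvd_of_le hC')))
    (hC'Q.trans (Core.normalizer_le_normalizer_centralizer _)) hcon
  have hHC := hH₀.trans hC'
  have hSL' : S ≤ fitSer (m + 1) C := hSL.trans (fitSer_mono _ hHC)
  have hSC : S ≤ C := hSL'.trans (fitSer_le _ _)
  have hsr : s ≠ r := by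
    rintro rfl
    have := Fact.mk hs
    obtain ⟨n, hn⟩ := hS.exists_card_eq
    rcases n with _ | n
    · exact hne (by rw [card_eq_one.1 hn]; exact bot_le)
    · exact hCr ((dvd_pow_self s n.succ_ne_zero).trans (hn ▸ card_dvd_of_le hSC))
  have hSm : S ≤ fitSer m C := hSL'.trans (fitSer_anti C m.le_succ)
  obtain ⟨H, S', hS'S, hS'H, hHS', hHL, hHQ, hne', hcase⟩ : ∃ H S' : Subgroup Γ, S' ≤ S ∧ S' ≤ H ∧
      H ≤ 𝒩(S') ∧ H ≤ fitSer m C ∧ H ≤ 𝒩(Q) ∧ ¬ S' ≤ 𝒞(Q) ∧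
      (q ≠ 2 ∧ S' ≤ ⁅H, H⁆ ∨ q = 2 ∧ H ≤ S' ∧ H ≤ 𝒞(H)) := by
    by_cases hq2 : q = 2
    · obtain ⟨x, hx, hxQ⟩ := SetLike.not_le_iff_exists.1 hne
      have h1 := zpowers_le.2 hx
      exact ⟨zpowers x, zpowers x, h1, le_rfl, le_normalizer, h1.trans hSm,
        h1.trans ((hSL.trans ((fitSer_le _ _).trans hH₀)).trans hC'Q), by rwa [zpowers_le],
        Or.inr ⟨hq2, le_rfl, Subgroup.le_centralizer _⟩⟩
    · rw [fitSer_succ] at hSL
      exact ⟨fitSer m H₀, S, le_rfl, hSL.trans (nilRes_le _), (fitSer_le _ _).trans hHS,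
        fitSer_mono _ hHC, (fitSer_le _ _).trans (hH₀.trans hC'Q), hne,
        Or.inl ⟨hq2, hSL.trans (nilRes_le_lcs _ 1)⟩⟩
  obtain ⟨D, hDQ, h1, -, hD, hmin⟩ := exists_minimal_not_le_centralizer (S := H ⊔ zpowers σ)
    (sup_le hHQ (zpowers_le.2 hσQ)) (hS'H.trans hHQ) hne'
  have hHD := le_sup_left.trans h1
  have hCN : ∀ j, C ≤ 𝒩(fitSer j C) := fun j =>
    le_normalizer.trans (normalizer_le_normalizer_fitSer j C)
  have hDC : D ⊓ 𝒞(zpowers σ) ≤ C := (inf_le_inf_right _ hDQ).trans hQC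
  have hHσ : H ≤ 𝒞(zpowers σ) := hHL.trans ((fitSer_le _ _).trans hCσ)
  have hmin' : ∀ E < D, H ≤ 𝒩(E) → σ ∈ 𝒩(E) → S' ≤ 𝒞(E) := fun E hE h2 h3 =>
    hmin E hE (sup_le h2 (zpowers_le.2 h3)) (hS'H.trans h2)
  by_cases hσD : D ≤ 𝒞(zpowers σ)
  · have := Fact.mk hq
    have h2 := (minimal_special (hQ.to_le hDQ) h1 (hS'H.trans hHD)
      (sup_le hHS' (cent_le_norm hσC (hS'S.trans hSC)))
      (cop_card hq hs hsq (hQ.to_le hDQ) (hS.to_le hS'S)) hD hmin).1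
    have h3 : D ≤ fitSer (m + 1) C := by
      rw [← h2, commutator_comm]
      exact (commutator_mono (hS'S.trans hSL') le_rfl).trans
        (commutator_le_of_le_normalizer (((le_inf le_rfl hσD).trans hDC).trans (hCN _)))
    have h4 := h0.le hq hp hqp (hQ.to_le hDQ)
      ((le_nilRes_of_le_commutator h3 (hS'S.trans hSL') h2.ge).trans (fitSer_succ _ C).ge)
    exact hD fun g _ d hd => by rw [mem_bot.1 (h4 hd), one_mul, mul_one]
  refine jc hρ hr hσ hrF hq hs hqr hsr hsq hqF (hQ.to_le hDQ) (hS.to_le hS'S) hS'H hHS' hHσ hHD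
    (h1 (mem_sup_right (mem_zpowers σ))) hD hmin' hσD (hP.mono hDQ)
    (hS'S.trans (hSL'.trans ((fitSer_succ _ C).le.trans (hA.nilRes_le hp)))) ?_ hcase
  refine hA.le hq hp hqp ((hQ.to_le (inf_le_left.trans hDQ)).to_le (commutator_le_of_le_normalizer
    (le_normalizer_inf hHD (hHσ.trans le_normalizer)))) ?_
  rw [commutator_comm]
  exact (commutator_mono hHL le_rfl).trans (commutator_le_of_le_normalizer (hDC.trans (hCN _)))

end CfsgLib.Tur
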