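import Cfsg.Agent.Lib.Tur.Step
import Cfsg.Agent.Lib.FPF.Aut

/-!
# Turull's theorem: the Fitting height exceeds that of the fixed points of a coprime automorphism
of prime order by at most two
-/

set_option autoImplicit false

namespace CfsgLib.Tur

open Subgroup Module CfsgLib.HH CfsgLib.FPF CfsgLib.Coprime
open scoped commutatorElement TensorProduct

universe u

/-- the statement proved by induction -/
def MainP (r m : ℕ) : Prop :=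
  ∀ (Γ : Type u) [Group Γ] [Finite Γ] (σ : Γ) (D : Subgroup Γ) (hσD : σ ∈ D) (p : ℕ) [Fact p.Prime]
    (W : Type u) [AddCommGroup W] [Module (ZMod p) W] [Finite W] (ρ : Representation (ZMod p) D W)
    (G : Subgroup Γ) (A : Submodule (ZMod p) W), σ ^ r = 1 → p ≠ r → Group.IsSolvable G →
    ¬ r ∣ Nat.card G → σ ∈ 𝒩(G) → G ≤ D →
    (∀ (s : ℕ) (T : Subgroup Γ), s.Prime → s ≠ p → s ≠ r → IsPGroup s T → T ≤ G → σ ∈ 𝒩(T) →
      PP ρ ⟨σ, hσD⟩ r A (T.subgroupOf D)) →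
    HB p m (G ⊓ 𝒞(zpowers σ)) ρ A →
    pm p (fitSer (m + 1) (G ⊓ 𝒞(zpowers σ))) (ρ.ker.map D.subtype) →
    pm p (fitSer (m + 1) G) (ρ.ker.map D.subtype)

variable {r : ℕ}

theorem ne_of_ne_bot {Γ : Type*} [Group Γ] [Finite Γ] {s : ℕ} (hs : s.Prime) {S G : Subgroup Γ}
    (hS : IsPGroup s S) (hSG : S ≤ G) (h0 : S ≠ ⊥) (hG : ¬ r ∣ Nat.card G) : s ≠ r := by
  rintro rfl
  have := Fact.mk hs
  obtain ⟨n, hn⟩ := hS.exists_card_eq
  rcases n with _ | n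
  · exact h0 (card_eq_one.1 hn)
  · exact hG ((dvd_pow_self s n.succ_ne_zero).trans (hn ▸ card_dvd_of_le hSG))

theorem descend (hr : r.Prime) {m : ℕ} (ih : MainP.{u} r m) {Γ : Type u} [Group Γ] [Finite Γ]
    {σ : Γ} (hσ : σ ^ r = 1) {q s : ℕ} [hq : Fact q.Prime] (hs : s.Prime) (hsq : s ≠ q)
    (hqr : q ≠ r) {Q G S C K : Subgroup Γ} (hQ : IsPGroup q Q) (hQ0 : Q ≠ ⊥) (hσQ : σ ∈ 𝒩(Q))
    (hGQ : G ≤ 𝒩(Q)) (hG : Group.IsSolvable G) (hGr : ¬ r ∣ Nat.card G) (hσG : σ ∈ 𝒩(G))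
    (hS : IsPGroup s S) (hSL : S ≤ fitSer (m + 1) G) (hQS : ⁅Q, S⁆ = Q) (hCσ : C ≤ 𝒞(zpowers σ))
    (hQC : Q ⊓ 𝒞(zpowers σ) ≤ C) (hGC : G ⊓ 𝒞(zpowers σ) ≤ C) (hK : Q ⊓ fitSer m C ≤ K)
    (hP : ∀ (s : ℕ) (T : Subgroup Γ), s.Prime → s ≠ q → s ≠ r → IsPGroup s T → T ≤ G → σ ∈ 𝒩(T) →
      PP (hrep q Q) ⟨σ, hσQ⟩ r (afix q ⟨σ, hσQ⟩ K) (T.subgroupOf _))
    (h : pm q (fitSer (m + 1) (G ⊓ 𝒞(zpowers σ))) 𝒞(Q)) : False := by
  have h1 := (ih Γ σ 𝒩(Q) hσQ q (HomSp q Q) (hrep q Q) G _ hσ hqr hG hGr hσG hGQ hP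
    (hb_afix hr hσ hqr hQ hσQ hCσ hQC hGC (inf_le_left.trans hGQ) hK)
    (h.mono le_rfl fun g hg => ⟨⟨g, centralizer_le_normalizer _ hg⟩, LinearMap.ext fun f =>
      hrep_eq_iff.2 fun a ha => by
        rw [(Commute.inv_right (hg a ha)).commutator_eq]; exact one_mem _, rfl⟩)).le
    hs hq.out hsq hS hSL
  obtain ⟨f, -, f0⟩ := exists_hom hQ (N := ⊥) (by rwa [le_bot_iff])
  refine f0 (eq_zero_of_le_kl (hQS.ge.trans (commutator_le_kl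
    (hSL.trans ((fitSer_le _ _).trans hGQ)) fun g hg => ?_)))
  obtain ⟨g', hg', e⟩ := h1 hg
  rw [← Subtype.ext e, show hrep q Q g' = 1 from hg', Module.End.one_apply]

theorem second (hr : r.Prime) {Γ : Type*} [Group Γ] [Finite Γ] {σ : Γ} (hσ : σ ^ r = 1) {q j : ℕ}
    (hq : q.Prime) {G Q₁ : Subgroup Γ} (hG : Group.IsSolvable G) (hGr : ¬ r ∣ Nat.card G)
    (hσG : σ ∈ 𝒩(G)) (hQL : Q₁ ≤ fitSer (j + 1) G) (hQ : IsPGroup q Q₁)
    (hi : ¬ q ∣ Q₁.relIndex (fitSer (j + 1) G)) (hGQ : G ≤ 𝒩(Q₁)) (hσQ : σ ∈ 𝒩(Q₁))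
    (hQ0 : Q₁ ≠ ⊥) : ∃ G' ≤ G, σ ∈ 𝒩(G') ∧ ∃ (s : ℕ) (S Q : Subgroup Γ), s.Prime ∧ s ≠ q ∧ s ≠ r ∧
      S ≤ fitSer j G' ∧ IsPGroup s S ∧ σ ∈ 𝒩(S) ∧ Q ≤ Q₁ ∧ G' ≤ 𝒩(Q) ∧ σ ∈ 𝒩(Q) ∧ Q ≠ ⊥ ∧
      ⁅Q, S⁆ = Q ∧ ⁅Q, Q⁆ ≤ 𝒞(Q) ∧ ∀ E < Q, 𝒩(Q) ≤ 𝒩(E) → S ≤ 𝒞(E) := by
  have := Fact.mk hq
  rw [fitSer_succ] at hQL hi
  obtain ⟨G', hG', hσG', s, S, hs, hsq, hSL, hS, -, hGS, hσS, hne⟩ := extract hr hσ hq j G hG hσG
    hGr (hGQ.trans (Core.normalizer_le_normalizer_centralizer _))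
    (not_pm_centralizer hq ((fitSer_le _ _).trans hGQ) hQL hQ hi hQ0)
  have hSG := hSL.trans (fitSer_le _ _)
  obtain ⟨Q, hQQ, h1, h2, hne', hmin⟩ := exists_minimal_not_le_centralizer (S := G' ⊔ zpowers σ)
    (sup_le (hG'.trans hGQ) (zpowers_le.2 hσQ)) (hSG.trans (hG'.trans hGQ)) hne
  obtain ⟨h3, h4, -⟩ := minimal_special (hQ.to_le hQQ) h1 h2 (sup_le hGS (zpowers_le.2 hσS))
    (cop_card hq hs hsq (hQ.to_le hQQ) hS) hne' hmin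
  refine ⟨G', hG', hσG', s, S, Q, hs, hsq, ne_of_ne_bot hs hS (hSG.trans hG') ?_ hGr, hSL, hS, hσS,
    hQQ, le_sup_left.trans h1, h1 (mem_sup_right (mem_zpowers σ)), ?_, h3, h4,
    fun E hE h => hmin E hE (h1.trans h) (h2.trans h)⟩
  · rintro rfl
    exact hne bot_le
  · rintro rfl
    exact hne' fun _ _ _ h => by rw [mem_bot.1 h, one_mul, mul_one]

theorem mainF (hr : r.Prime) {m : ℕ} (ih : ∀ j, m = j + 1 → MainP.{u} r j) {F : Type*} [Field F]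
    [IsAlgClosed F] {Γ : Type u} [Group Γ] [Finite Γ] {W : Type*} [AddCommGroup W] [Module F W]
    [FiniteDimensional F W] {ρ : Representation F Γ W} (hρ : ∀ g, ρ g = 1 → g = 1) {σ : Γ}
    (hσ : σ ^ r = 1) (hrF : (r : F) ≠ 0) {p q : ℕ} (hp : p.Prime) (hq : q.Prime) (hqp : q ≠ p)
    (hqF : (q : F) ≠ 0) {G Q₁ : Subgroup Γ} (hG : Group.IsSolvable G)
    (hGr : ¬ r ∣ Nat.card G) (hσG : σ ∈ 𝒩(G)) (hQL : Q₁ ≤ fitSer (m + 1) G) (hQ : IsPGroup q Q₁)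
    (hi : ¬ q ∣ Q₁.relIndex (fitSer (m + 1) G)) (hGQ : G ≤ 𝒩(Q₁)) (hσQ : σ ∈ 𝒩(Q₁))
    (hQ0 : Q₁ ≠ ⊥) {A : Submodule F W} (hP : PP ρ σ r A Q₁) (hA0 : m = 0 → A = ⊥)
    (hA : ∀ j, m = j + 1 → pm p (fitSer j (G ⊓ 𝒞(zpowers σ))) (kerOn ρ A))
    (h0 : pm p (fitSer (m + 1) (G ⊓ 𝒞(zpowers σ))) ⊥) : False := by
  have := Fact.mk hq
  have hQG := hQL.trans (fitSer_le _ _)
  have hqr := ne_of_ne_bot hq hQ hQG hQ0 hGr
  obtain ⟨G', hG', hσG', s, S, Q, hs, hsq, hsr, hSL, hS, hσS, hQQ, hGQ', hσQ', hQ0', hQS, h2,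
    hmin⟩ := second hr hσ hq hG hGr hσG hQL hQ hi hGQ hσQ hQ0
  have hSG := hSL.trans (fitSer_le _ _)
  replace hQ := hQ.to_le hQQ
  replace hP := hP.mono hQQ
  have hQC : Q ⊓ 𝒞(zpowers σ) ≤ G ⊓ 𝒞(zpowers σ) := inf_le_inf_right _ (hQQ.trans hQG)
  rcases m with _ | j
  · obtain rfl := hA0 rfl
    obtain ⟨D, hD, hD0, hDD⟩ := base hρ hr hσ hrF hq hs hsq hqr hsr hqF hQ hS hσQ' hσS
      (hSG.trans hGQ') (fun h => hQ0' (hQS.symm.trans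
        (commutator_eq_bot_iff_le_centralizer.2 (le_centralizer_iff.1 h)))) hP
    exact hD0 (eq_bot_iff.2 (h0.le hq hp hqp (hQ.to_le (hD.trans inf_le_left))
      (le_nilRes_of_le_commutator (hD.trans hQC) (inf_le_inf_right _ (hSG.trans hG')) hDD)))
  have hGC : G' ⊓ 𝒞(zpowers σ) ≤ G ⊓ 𝒞(zpowers σ) := inf_le_inf_right _ hG'
  refine descend hr (ih j rfl) hσ hs hsq hqr hQ hQ0' hσQ' hGQ' (Core.isSolvable_of_le hG')
    (fun h => hGr (h.trans (card_dvd_of_le hG'))) hσG' hS hSL hQS inf_le_right hQC hGC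
    (K := Q ⊓ 𝒞(zpowers σ) ⊓ kerOn ρ A)
    (le_inf (inf_le_inf_left _ ((fitSer_le _ _).trans inf_le_right))
      ((hA j rfl).le hq hp hqp (hQ.to_le inf_le_left) inf_le_right))
    (fun t T ht htq htr hT hTG hσT => pp_afix hr hσ hrF hqr hqF hQ hσQ' h2 hP
      (iSup_killing hρ hqF hQ hQ0' (hSG.trans hGQ') ?_ hQS hmin) ht htq htr hT hσT
      (hTG.trans hGQ'))
    (junction hρ hr hσ hrF hp hq hqp hqr hqF hQ hσQ' (Core.isSolvable_of_le inf_le_left)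
      (fun h => hGr (h.trans (card_dvd_of_le inf_le_left))) inf_le_right hQC hGC
      (inf_le_left.trans hGQ') hP (hA j rfl) h0)
  have := Fact.mk hs
  exact card_ne_zero_of_isPGroup (natCast_zmod_ne_zero hq hs hsq.symm) hS

theorem PP.baseChange {F : Type*} [Field F] {Γ : Type*} [Group Γ] {W : Type*} [AddCommGroup W]
    [Module F W] {ρ : Representation F Γ W} {σ : Γ} (hσ : σ ^ r = 1) (K : Type*) [Field K]
    [Algebra F K] (hrK : (r : K) ≠ 0) {A : Submodule F W} {S : Subgroup Γ} (h : PP ρ σ r A S) :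
    PP (baseChangeRep K ρ) σ r (Submodule.span K ((fun w => (1 : K) ⊗ₜ[F] w) '' A)) S := by
  have ht : ∀ (k : K) (u : W), tr (baseChangeRep K ρ) σ r (k ⊗ₜ u) = k ⊗ₜ tr ρ σ r u := by
    intro k u
    rw [tr_apply, tr_apply, TensorProduct.tmul_sum]
    rfl
  intro w hw
  rw [← Submodule.smul_mem_iff _ hrK, ← tr_of_fixed hw]
  clear hw
  set X : Submodule K (K ⊗[F] W) := _ ⊔ _
  induction w with
  | zero => simp
  | add a b ha hb => rw [map_add]; exact add_mem ha hb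
  | tmul k u =>
    rw [ht, ← mul_one k, ← smul_eq_mul, ← TensorProduct.smul_tmul']
    refine Submodule.smul_mem _ _ (h.ind (U := (X.restrictScalars F).comap
      (TensorProduct.mk F K W 1)) (fun a ha => Submodule.mem_sup_left
        (Submodule.subset_span ⟨a, ha, rfl⟩)) (fun v hv => Submodule.mem_sup_right
        (Submodule.subset_span ⟨congrArg (fun w => (1 : K) ⊗ₜ[F] w) hv.1, fun g hg => ?_⟩))
      (tr_fixed hσ u))
    refine (hv.2 g hg).imp (congrArg fun w => (1 : K) ⊗ₜ[F] w) fun e => ?_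
    exact (ht 1 _).symm ▸ Submodule.subset_span ⟨_, e, rfl⟩

theorem mainZ (hr : r.Prime) {m : ℕ} (ih : ∀ j, m = j + 1 → MainP.{u} r j) {F : Type*} [Field F]
    {Γ : Type u} [Group Γ] [Finite Γ] {W : Type*} [AddCommGroup W] [Module F W]
    [FiniteDimensional F W] {ρ : Representation F Γ W} (hρ : ∀ g, ρ g = 1 → g = 1) {σ : Γ}
    (hσ : σ ^ r = 1) (hrF : (r : F) ≠ 0) {p q : ℕ} (hp : p.Prime) (hq : q.Prime) (hqp : q ≠ p)
    (hqF : (q : F) ≠ 0) {G Q₁ : Subgroup Γ} (hG : Group.IsSolvable G)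
    (hGr : ¬ r ∣ Nat.card G) (hσG : σ ∈ 𝒩(G)) (hQL : Q₁ ≤ fitSer (m + 1) G) (hQ : IsPGroup q Q₁)
    (hi : ¬ q ∣ Q₁.relIndex (fitSer (m + 1) G)) (hGQ : G ≤ 𝒩(Q₁)) (hσQ : σ ∈ 𝒩(Q₁))
    (hQ0 : Q₁ ≠ ⊥) {A : Submodule F W} (hP : PP ρ σ r A Q₁) (hA0 : m = 0 → A = ⊥)
    (hA : ∀ j, m = j + 1 → pm p (fitSer j (G ⊓ 𝒞(zpowers σ))) (kerOn ρ A))
    (h0 : pm p (fitSer (m + 1) (G ⊓ 𝒞(zpowers σ))) ⊥) : False := by
  have hrK := natCast_algebraicClosure_ne_zero hrF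
  refine mainF hr ih (ρ := baseChangeRep (AlgebraicClosure F) ρ)
    (fun g h => hρ g ((baseChangeRep_eq_one_iff _ ρ).1 h)) hσ hrK hp hq hqp
    (natCast_algebraicClosure_ne_zero hqF) hG hGr hσG hQL hQ hi hGQ hσQ hQ0 (hP.baseChange hσ _ hrK)
    (fun h => by simp [hA0 h]) (fun j h => (hA j h).mono le_rfl fun g hg w hw => ?_) h0
  refine mem_fixSp_zpowers.1 ((Submodule.span_le.2 ?_ : _ ≤ fixSp _ _) hw)
  rintro _ ⟨a, ha, rfl⟩
  exact mem_fixSp_zpowers.2 (congrArg (fun w => (1 : AlgebraicClosure F) ⊗ₜ[F] w) (hg a ha))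

theorem main_step (hr : r.Prime) {m : ℕ} (ih : ∀ j, m = j + 1 → MainP.{u} r j) :
    MainP.{u} r m := by
  intro Γ _ _ σ D hσD p hp W _ _ _ ρ G A hσ hpr hG hGr hσG hGD hP hA h0
  by_contra hcon
  obtain ⟨G₀, hG₀, hσG₀, q, Q, hq, hqp, hQL, hQ, hi, hGQ, hσQ, hQN⟩ := extract hr hσ hp.out (m + 1)
    G hG hσG hGr (fun g hg => le_normalizer_map D.subtype
      ⟨⟨g, hGD hg⟩, le_normalizer_of_normal (mem_top _), rfl⟩) hcon
  have hG₀D := hG₀.trans hGD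
  have hQG := hQL.trans (fitSer_le _ _)
  have hG₀r : ¬ r ∣ Nat.card (G₀.subgroupOf D) := by
    rw [Nat.card_congr (subgroupOfEquivOfLe hG₀D).toEquiv]
    exact fun h => hGr (h.trans (card_dvd_of_le hG₀))
  let f := (MonoidHom.toHomUnits ρ).rangeRestrict
  have : Finite (MonoidHom.toHomUnits ρ).range :=
    Finite.of_surjective f (MonoidHom.rangeRestrict_surjective _)
  let τ : Representation (ZMod p) (MonoidHom.toHomUnits ρ).range W :=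
    (Units.coeHom _).comp (Subgroup.subtype _)
  have e : ∀ g, τ (f g) = ρ g := fun g => rfl
  have hτ : ∀ g, τ g = 1 → g = 1 := fun g h => Subtype.ext (Units.ext h)
  have hσ' : (⟨σ, hσD⟩ : D) ^ r = 1 := Subtype.ext hσ
  have hn : ∀ {X : Subgroup Γ} (g : D), (g : Γ) ∈ 𝒩(X) → f g ∈ 𝒩((X.subgroupOf D).map f) :=
    fun g h => le_normalizer_map f ⟨g, mem_normalizer_subgroupOf h, rfl⟩
  have hfit : ∀ j, ∀ X ≤ D, fitSer j ((X.subgroupOf D).map f) = ((fitSer j X).subgroupOf D).map f :=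
    fun j X hX => by rw [← map_fitSer, fitSer_subgroupOf hX]
  have hC : (G₀.subgroupOf D).map f ⊓ 𝒞(zpowers (f ⟨σ, hσD⟩)) ≤
      ((G ⊓ 𝒞(zpowers σ)).subgroupOf D).map f := by
    rw [← MonoidHom.map_zpowers, ← map_inf_centralizer f
      (zpowers_le.2 (mem_normalizer_subgroupOf hσG₀))
      ((cop_of_not_dvd hr hσ' hG₀r).coprime_dvd_right (card_dvd_of_le inf_le_left))
      (Or.inl (isSolvable_zpowers _))]
    exact map_mono fun g hg => ⟨hG₀ hg.1, mem_cz.2 (congrArg Subtype.val (mem_cz.1 hg.2))⟩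
  have hpm : ∀ (j : ℕ) (N : Subgroup D) (N' : Subgroup (MonoidHom.toHomUnits ρ).range),
      N ≤ N'.comap f → pm p (fitSer j (G ⊓ 𝒞(zpowers σ))) (N.map D.subtype) →
      pm p (fitSer j ((G₀.subgroupOf D).map f ⊓ 𝒞(zpowers (f ⟨σ, hσD⟩)))) N' := by
    intro j N N' hN h
    refine (pm.map f fun x hx => ?_).mono
      ((fitSer_mono j hC).trans (hfit j _ (inf_le_left.trans hGD)).le) le_rfl
    obtain ⟨a, y, hy, e⟩ := h x hx
    exact ⟨a, hN (by rwa [← show y = x ^ p ^ a from Subtype.ext e])⟩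
  have hs₀ : Group.IsSolvable G₀ := Core.isSolvable_of_le hG₀
  have hs₁ : Group.IsSolvable (G₀.subgroupOf D) :=
    Core.isSolvable_of_mulEquiv (subgroupOfEquivOfLe hG₀D).symm
  have hfσ : f ⟨σ, hσD⟩ ^ r = 1 := by rw [← map_pow, hσ', map_one]
  have hrF := natCast_zmod_ne_zero hp.out hr hpr
  have h1 : PP τ (f ⟨σ, hσD⟩) r A ((Q.subgroupOf D).map f) := by
    simpa using (hP q Q hq hqp (ne_of_ne_bot hq hQ (hQG.trans hG₀) (fun h => hQN (h ▸ bot_le)) hGr)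
      hQ (hQG.trans hG₀) hσQ).map (ρ' := τ) (σ' := f ⟨σ, hσD⟩) (S' := (Q.subgroupOf D).map f) hσ'
      hrF LinearMap.id Function.surjective_id (fun _ => rfl) (by
        rintro _ ⟨g, hg, rfl⟩
        exact ⟨g, hg, fun _ => rfl⟩)
  have h2 : ¬ q ∣ ((Q.subgroupOf D).map f).relIndex (fitSer (m + 1) ((G₀.subgroupOf D).map f)) := by
    rw [hfit _ _ hG₀D]
    exact not_dvd_relIndex_map f (comap_mono hQL)
      ((relIndex_subgroupOf (H := Q) ((fitSer_le _ _).trans hG₀D)).symm ▸ hi)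
  have h3 : (Q.subgroupOf D).map f ≠ ⊥ := fun h => hQN fun g hg => ⟨⟨g, hG₀D (hQG hg)⟩, by
    change ρ _ = 1
    rw [← e, mem_bot.1 (h.le ⟨⟨g, _⟩, hg, rfl⟩), map_one], rfl⟩
  exact mainZ hr ih hτ hfσ hrF hp.out hq hqp (natCast_zmod_ne_zero hp.out hq hqp.symm)
    (Core.isSolvable_map f _) (fun h => hG₀r (h.trans (card_map_dvd _ f))) (hn _ hσG₀)
    ((map_mono (comap_mono hQL)).trans (hfit _ _ hG₀D).ge) (hQ.comap_subtype.map f) h2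
    (by rintro _ ⟨g, hg, rfl⟩; exact hn g (hGQ hg)) (hn _ hσQ) h3 h1 hA.1
    (fun j h => hpm j _ _ (fun g hg => hg) (hA.2 j h)) (hpm _ _ _ (fun g hg => hτ _ hg) h0)

theorem mainP (hr : r.Prime) (m : ℕ) : MainP.{u} r m := by
  induction m with
  | zero => exact main_step hr fun j h => absurd h (by omega)
  | succ m ih => exact main_step hr fun j h => by rwa [← Nat.succ_injective h]

/-- Turull's theorem in an ambient group -/
theorem fitSer_add_two (hr : r.Prime) {Γ : Type u} [Group Γ] [Finite Γ] {σ : Γ} (hσ : σ ^ r = 1)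
    {G : Subgroup Γ} (hG : Group.IsSolvable G) (hGr : ¬ r ∣ Nat.card G) (hσG : σ ∈ 𝒩(G)) {n : ℕ}
    (h : fitSer n (G ⊓ 𝒞(zpowers σ)) = ⊥) : fitSer (n + 2) G = ⊥ := by
  by_contra hne
  obtain ⟨G₀, hG₀, hσG₀, q, Q₁, hq, hqr, hQL, hQ, hi, hGQ, hσQ, hQ0⟩ := extract hr hσ hr (N := ⊥)
    (n + 2) G hG hσG hGr le_normalizer_of_normal fun h => hne (eq_bot_iff.2 fun x hx =>
      h.mem hx (((Nat.Prime.coprime_iff_not_dvd hr).2 hGr).symm.coprime_dvd_left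
        (Subgroup.orderOf_dvd_natCard _ (fitSer_le _ _ hx))))
  have hs₀ : Group.IsSolvable G₀ := Core.isSolvable_of_le hG₀
  have hG₀r : ¬ r ∣ Nat.card G₀ := fun h => hGr (h.trans (card_dvd_of_le hG₀))
  obtain ⟨G', hG', hσG', s, S, Q, hs, hsq, -, hSL, hS, -, hQQ, hGQ', hσQ', hQ0', hQS, -⟩ :=
    second hr hσ hq hs₀ hG₀r hσG₀ hQL hQ hi hGQ hσQ (by rwa [Ne, ← le_bot_iff])
  have := Fact.mk hq
  have hGC : G' ⊓ 𝒞(zpowers σ) ≤ G ⊓ 𝒞(zpowers σ) := inf_le_inf_right _ (hG'.trans hG₀)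
  exact descend hr (mainP hr n) hσ hs hsq hqr (hQ.to_le hQQ) hQ0' hσQ' hGQ'
    (Core.isSolvable_of_le hG') (fun h => hG₀r (h.trans (card_dvd_of_le hG'))) hσG' hS hSL hQS
    inf_le_right (inf_le_inf_right _ (hQQ.trans (hQL.trans ((fitSer_le _ _).trans hG₀)))) hGC
    (K := ⊥) (inf_le_right.trans h.le)
    (fun _ _ _ _ _ _ _ _ w hw => Submodule.mem_sup_left ⟨mem_fixSp_zpowers.2 hw, fun a ha => by
      rw [mem_bot.1 ha, hom_one]⟩)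
    (pm_of_le ((fitSer_mono _ hGC).trans ((fitSer_anti _ n.le_succ).trans (h.le.trans bot_le))))

end CfsgLib.Tur
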