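import Cfsg.Agent.Lib.Tur.Jun

/-!
# The step: the module of the homomorphisms from a layer to the prime field
-/

set_option autoImplicit false

namespace CfsgLib.Tur

open Subgroup Module CfsgLib.HH CfsgLib.FPF CfsgLib.Coprime
open scoped commutatorElement Pointwise

variable {Γ : Type*} [Group Γ] {σ : Γ} {r q : ℕ} {Q : Subgroup Γ}

/-- the homomorphisms from `Q` to the prime field, extended by zero -/
def HomSp (q : ℕ) (Q : Subgroup Γ) : Submodule (ZMod q) (Γ → ZMod q) where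
  carrier := {f | (∀ a ∈ Q, ∀ b ∈ Q, f (a * b) = f a + f b) ∧ ∀ a ∉ Q, f a = 0}
  zero_mem' := ⟨fun _ _ _ _ => by simp, fun _ _ => rfl⟩
  add_mem' := fun {f g} hf hg => ⟨fun a ha b hb => by
    simp only [Pi.add_apply, hf.1 a ha b hb, hg.1 a ha b hb]
    ring, fun a ha => by simp [hf.2 a ha, hg.2 a ha]⟩
  smul_mem' := fun c f hf => ⟨fun a ha b hb => by simp [hf.1 a ha b hb, mul_add],
    fun a ha => by simp [hf.2 a ha]⟩

/-- the action of the normaliser -/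
def hrep (q : ℕ) (Q : Subgroup Γ) : Representation (ZMod q) 𝒩(Q) (HomSp q Q) where
  toFun g :=
    { toFun := fun f => ⟨fun a => f.1 ((g : Γ)⁻¹ * a * g), fun a ha b hb => by
        rw [← f.2.1 _ ((mem_normalizer_iff''.1 g.2 a).1 ha) _ ((mem_normalizer_iff''.1 g.2 b).1 hb)]
        group, fun a ha => f.2.2 _ fun h => ha ((mem_normalizer_iff''.1 g.2 a).2 h)⟩
      map_add' := fun _ _ => rfl
      map_smul' := fun _ _ => rfl }
  map_one' := by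
    ext f a
    simp
  map_mul' g h := by
    ext f a
    simp [mul_assoc]

theorem hrep_apply (g : 𝒩(Q)) (f : HomSp q Q) (a : Γ) :
    (hrep q Q g f).1 a = f.1 ((g : Γ)⁻¹ * a * g) := rfl

theorem hom_one (f : HomSp q Q) : f.1 1 = 0 := by
  simpa using f.2.1 1 Q.one_mem 1 Q.one_mem

theorem hom_pow (f : HomSp q Q) {a : Γ} (ha : a ∈ Q) (n : ℕ) : f.1 (a ^ n) = n * f.1 a := by
  induction n with
  | zero => simp [hom_one]
  | succ n ih => rw [pow_succ, f.2.1 _ (pow_mem ha n) _ ha, ih]; push_cast; ring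

theorem hom_ext {f g : HomSp q Q} (h : ∀ a ∈ Q, f.1 a = g.1 a) : f = g := by
  ext a
  by_cases ha : a ∈ Q
  · exact h a ha
  · rw [f.2.2 a ha, g.2.2 a ha]

/-- the kernel -/
def kl (f : HomSp q Q) : Subgroup Γ where
  carrier := {a | a ∈ Q ∧ f.1 a = 0}
  one_mem' := ⟨one_mem _, hom_one f⟩
  mul_mem' := fun {a b} ha hb => ⟨mul_mem ha.1 hb.1, by
    rw [f.2.1 a ha.1 b hb.1, ha.2, hb.2, add_zero]⟩
  inv_mem' := fun {a} ha => ⟨inv_mem ha.1, by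
    simpa [hom_one, ha.2] using (f.2.1 a ha.1 _ (inv_mem ha.1)).symm⟩

theorem hrep_eq_iff {g : 𝒩(Q)} {f : HomSp q Q} :
    hrep q Q g f = f ↔ ∀ a ∈ Q, ⁅a, (g : Γ)⁻¹⁆ ∈ kl f := by
  have h0 : ∀ a ∈ Q, ⁅a, (g : Γ)⁻¹⁆ ∈ Q := fun a ha =>
    commutator_le_of_le_normalizer le_rfl (commutator_mem_commutator ha (inv_mem g.2))
  have h1 : ∀ a ∈ Q, (hrep q Q g f).1 a = f.1 a + f.1 ⁅a⁻¹, (g : Γ)⁻¹⁆ := fun a ha => by
    rw [← f.2.1 a ha _ (h0 _ (inv_mem ha)), hrep_apply]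
    group
  refine ⟨fun h a ha => ⟨h0 a ha, ?_⟩,
    fun h => hom_ext fun a ha => by rw [h1 a ha, (h _ (inv_mem ha)).2, add_zero]⟩
  simpa [h] using h1 _ (inv_mem ha)

theorem commutator_le_kl {T : Subgroup Γ} (hT : T ≤ 𝒩(Q)) {f : HomSp q Q}
    (h : ∀ g : 𝒩(Q), (g : Γ) ∈ T → hrep q Q g f = f) : ⁅Q, T⁆ ≤ kl f :=
  commutator_le.2 fun a ha g hg => by
    simpa using hrep_eq_iff.1 (h ⟨g, hT hg⟩⁻¹ (inv_mem hg)) a ha

theorem eq_zero_of_le_kl {f : HomSp q Q} (h : Q ≤ kl f) : f = 0 :=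
  hom_ext fun _ ha => (h ha).2

/-- the homomorphisms killing a subgroup -/
def killing (q : ℕ) (Q N : Subgroup Γ) : Submodule (ZMod q) (HomSp q Q) where
  carrier := {f | ∀ a ∈ N, f.1 a = 0}
  zero_mem' := fun _ _ => rfl
  add_mem' := fun {f g} hf hg a ha => by simp [hf a ha, hg a ha]
  smul_mem' := fun c f hf a ha => by simp [hf a ha]

theorem tr_hom [Fact q.Prime] (g : 𝒩(Q)) (f : HomSp q Q) (a : Γ) :
    (tr (hrep q Q) g r f).1 a = ∑ j ∈ Finset.range r, f.1 (((g : Γ) ^ j)⁻¹ * a * g ^ j) := by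
  rw [tr_apply, Submodule.coe_sum, Finset.sum_apply]
  rfl

theorem exists_hom [Finite Γ] [Fact q.Prime] (hQ : IsPGroup q Q) {N : Subgroup Γ} (h : ¬ Q ≤ N) :
    ∃ f ∈ killing q Q (Q ⊓ N), f ≠ 0 := by
  classical
  obtain ⟨M, hM, hNM, hi⟩ := Core.exists_normal_index_eq_ge_of_isPGroup hQ
    (H := N.subgroupOf Q) (by rwa [Ne, subgroupOf_eq_top])
  let e : Q ⧸ M ≃* Multiplicative (ZMod q) := mulEquivOfPrimeCardEq hi (by simp)
  refine ⟨⟨fun a => if ha : a ∈ Q then (e (⟨a, ha⟩ : Q)).toAdd else 0, fun a ha b hb => ?_,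
    fun a ha => dif_neg ha⟩, fun a ha => ?_, fun h0 => ?_⟩
  · simp only [dif_pos ha, dif_pos hb, dif_pos (mul_mem ha hb)]
    rw [← toAdd_mul, ← map_mul]
    rfl
  · refine (dif_pos (mem_inf.1 ha).1).trans ?_
    rw [(QuotientGroup.eq_one_iff _).2 (hNM (mem_subgroupOf.2 ha.2)), map_one, toAdd_one]
  · obtain ⟨y, hy⟩ := e.surjective (Multiplicative.ofAdd 1)
    obtain ⟨a, rfl⟩ := QuotientGroup.mk_surjective y
    have := congrArg (fun f : HomSp q Q => f.1 a) h0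
    simp [hy] at this

theorem eq_top_of_kernel [Finite Γ] [Fact q.Prime] {X : Submodule (ZMod q) (HomSp q Q)}
    (h : ∀ a ∈ Q, (∀ f ∈ X, f.1 a = 0) → ∀ f : HomSp q Q, f.1 a = 0) : X = ⊤ := by
  by_contra hX
  obtain ⟨l, l0, hl⟩ := Submodule.exists_dual_map_eq_bot_of_lt_top (lt_top_iff_ne_top.2 hX)
    inferInstance
  let ev : Q → HomSp q Q →ₗ[ZMod q] ZMod q := fun a =>
    (LinearMap.proj (a : Γ)).comp (HomSp q Q).subtype
  have h1 : ∀ l ∈ Submodule.span (ZMod q) (Set.range ev), ∃ a, ev a = l := by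
    intro l hl
    induction hl using Submodule.span_induction with
    | mem _ h => exact h
    | zero => exact ⟨1, LinearMap.ext hom_one⟩
    | add _ _ _ _ h h' =>
      obtain ⟨a, rfl⟩ := h
      obtain ⟨b, rfl⟩ := h'
      exact ⟨a * b, LinearMap.ext fun f => f.2.1 _ a.2 _ b.2⟩
    | smul c _ _ h =>
      obtain ⟨a, rfl⟩ := h
      refine ⟨a ^ c.val, LinearMap.ext fun f => (hom_pow f a.2 _).trans ?_⟩
      rw [ZMod.natCast_zmod_val]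
      rfl
  obtain ⟨a, rfl⟩ := h1 l (mem_span_of_iInf_ker_le_ker fun f hf => by
    rw [show f = 0 from hom_ext fun a ha => (Submodule.mem_iInf _).1 hf ⟨a, ha⟩]
    exact zero_mem _)
  exact l0 (LinearMap.ext (h a a.2 fun f hf => hl.le ⟨f, hf, rfl⟩))

theorem hom_eq_zero_of_centralizer [Finite Γ] [Fact q.Prime] {S : Subgroup Γ} (hS : S ≤ 𝒩(Q))
    (hc : (Nat.card S : ZMod q) ≠ 0) (hQS : ⁅Q, S⁆ = Q) {a : Γ} (ha : a ∈ 𝒞(S)) (f : HomSp q Q) :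
    f.1 a = 0 := by
  have := Fintype.ofFinite (S.subgroupOf 𝒩(Q))
  have h1 := congrArg (fun f : HomSp q Q => f.1 a) (eq_zero_of_le_kl (hQS.ge.trans
    (commutator_le_kl hS fun g hg => av_mem_fixSp (H := S.subgroupOf 𝒩(Q)) f g hg)))
  simp only [av_apply, Submodule.coe_sum, Finset.sum_apply, hrep_apply] at h1
  rw [Finset.sum_congr rfl fun (g : S.subgroupOf 𝒩(Q)) _ => show f.1 _ = f.1 a by
    rw [mul_assoc, ← ha g g.2, inv_mul_cancel_left], Finset.sum_const, Finset.card_univ,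
    ← Nat.card_eq_fintype_card, Nat.card_congr (subgroupOfEquivOfLe hS).toEquiv,
    nsmul_eq_mul] at h1
  exact (mul_eq_zero.1 h1).resolve_left hc

/-- the fixed homomorphisms killing a subgroup -/
def afix (q : ℕ) [Fact q.Prime] {Q : Subgroup Γ} (g : 𝒩(Q)) (K : Subgroup Γ) :
    Submodule (ZMod q) (HomSp q Q) := fixSp (hrep q Q) (zpowers g) ⊓ killing q Q K

theorem le_kl_of_mem_afix [Fact q.Prime] (hσQ : σ ∈ 𝒩(Q)) {K : Subgroup Γ} {f : HomSp q Q}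
    (hf : f ∈ afix q ⟨σ, hσQ⟩ K) : ⁅Q, zpowers σ⁆ ≤ kl f :=
  commutator_le_kl (zpowers_le.2 hσQ) fun g hg => hf.1 g (by rwa [← zpowers_subgroupOf])

/-- the hypothesis on the action of the fixed points on the subspace -/
def HB {F : Type*} [Field F] {W : Type*} [AddCommGroup W] [Module F W] (p m : ℕ) (C : Subgroup Γ)
    {D : Subgroup Γ} (ρ : Representation F D W) (A : Submodule F W) : Prop :=
  (m = 0 → A = ⊥) ∧ ∀ j, m = j + 1 → pm p (fitSer j C) ((kerOn ρ A).map D.subtype)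

theorem hb_afix [Finite Γ] [hq : Fact q.Prime] (hr : r.Prime) (hσ : σ ^ r = 1) (hqr : q ≠ r)
    (hQ : IsPGroup q Q) (hσQ : σ ∈ 𝒩(Q)) {C C' K : Subgroup Γ} (hCσ : C ≤ 𝒞(zpowers σ))
    (hQC : Q ⊓ 𝒞(zpowers σ) ≤ C) (hC' : C' ≤ C) (hC'Q : C' ≤ 𝒩(Q)) {m : ℕ}
    (hK : Q ⊓ fitSer m C ≤ K) : HB q m C' (hrep q Q) (afix q ⟨σ, hσQ⟩ K) := by
  have hz := zpowers_le.2 hσQ
  have hQQ := commutator_sup_centralizer hz (cop_of_isPGroup hr hσ hq.out hqr hQ)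
    (Or.inl (isSolvable_zpowers σ))
  refine ⟨fun h => eq_bot_iff.2 fun f hf => eq_zero_of_le_kl (hQQ.ge.trans
    (sup_le (le_kl_of_mem_afix hσQ hf) fun a ha => ⟨ha.1, hf.2 a (hK ⟨ha.1, ?_⟩)⟩)),
    fun j h => pm_of_coprime hq.out fun y hy hc => ?_⟩
  · rw [h]
    exact hQC ha
  have hyC' : zpowers y ≤ C' := zpowers_le.2 (fitSer_le _ _ hy)
  have hyL : zpowers y ≤ fitSer j C := zpowers_le.2 (fitSer_mono j hC' hy)
  have hyQ := hyC'.trans hC'Q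
  have hyσ := hyC'.trans (hC'.trans hCσ)
  have hyZ : zpowers y ≤ 𝒩(Q ⊓ 𝒞(zpowers σ)) := le_normalizer_inf hyQ (hyσ.trans le_normalizer)
  have h1 : ⁅Q ⊓ 𝒞(zpowers σ), zpowers y⁆ ≤ Q ⊓ fitSer m C := by
    refine le_inf ((commutator_le_of_le_normalizer hyZ).trans inf_le_left) ?_
    rw [h, fitSer_succ]
    refine le_nilRes_of_le_commutator ?_ hyL (commutator_commutator_eq hyZ
      (coprime_card_of_isPGroup (hQ.to_le inf_le_left) (by rwa [Nat.card_zpowers]))).ge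
    rw [commutator_comm]
    exact (commutator_mono hyL le_rfl).trans (commutator_le_of_le_normalizer
      (hQC.trans (le_normalizer.trans (normalizer_le_normalizer_fitSer j C))))
  refine ⟨⟨y, hyQ (mem_zpowers y)⟩, fun f hf => hrep_eq_iff.2 fun a ha => ?_, rfl⟩
  have hkl : Q ≤ 𝒩(kl f) := Core.le_normalizer_of_commutator_le_of_le
    (commutator_le_kl le_normalizer fun g hg => hom_ext fun b hb => by
      rw [hrep_apply, f.2.1 _ (mul_mem (inv_mem hg) hb) _ hg, f.2.1 _ (inv_mem hg) _ hb,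
        add_right_comm, ← f.2.1 _ (inv_mem hg) _ hg, inv_mul_cancel, hom_one, zero_add])
    fun _ h => h.1
  refine Core.commutator_sup_left_le
    ((commutator_le_of_le_normalizer hz).trans hkl) (inf_le_left.trans hkl) ?_
    (fun b hb => ⟨(h1 hb).1, hf.2 b (hK (h1 hb))⟩)
    (commutator_mem_commutator (hQQ.ge ha) (inv_mem (mem_zpowers y)))
  exact (commutator_le_of_le_normalizer ((le_inf hyQ (hyσ.trans
    (centralizer_le_normalizer _))).trans (Core.normalizer_inf_le_normalizer_commutator _ _))).trans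
    (le_kl_of_mem_afix hσQ hf)

variable {F : Type*} [Field F] {W : Type*} [AddCommGroup W] [Module F W] [FiniteDimensional F W]
variable {ρ : Representation F Γ W}

theorem iSup_killing [Finite Γ] [Fact q.Prime] (hρ : ∀ g, ρ g = 1 → g = 1) (hqF : (q : F) ≠ 0)
    (hQ : IsPGroup q Q) (hQ0 : Q ≠ ⊥) {S : Subgroup Γ} (hS : S ≤ 𝒩(Q))
    (hc : (Nat.card S : ZMod q) ≠ 0) (hQS : ⁅Q, S⁆ = Q)
    (hmin : ∀ E < Q, 𝒩(Q) ≤ 𝒩(E) → S ≤ 𝒞(E)) :
    ⨆ M : {M // Irr ρ Q M}, killing q Q (Q ⊓ kerOn ρ M) = ⊤ := by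
  set X := ⨆ M : {M // Irr ρ Q M}, killing q Q (Q ⊓ kerOn ρ M)
  have hX : ∀ g, X ≤ X.comap (hrep q Q g) := fun g => iSup_le fun M f hf =>
    (le_iSup (fun M : {M // Irr ρ Q M} => killing q Q (Q ⊓ kerOn ρ M)) ⟨_, M.2.map g.2⟩ :
      _ ≤ X) fun a ha => hf _ ((mem_nker_map g.2).1 ha)
  obtain ⟨M, hM, hQM⟩ : ∃ M, Irr ρ Q M ∧ ¬ Q ≤ kerOn ρ M := by
    by_contra h
    push Not at h
    exact hQ0 (eq_bot_of_forall_irr hρ le_normalizer (card_ne_zero_of_isPGroup hqF hQ) h)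
  obtain ⟨f, hf, f0⟩ := exists_hom hQ hQM
  have h1 := hmin (Q ⊓ ⨅ f ∈ X, kl f) (inf_lt_left.2 fun h => f0 (eq_zero_of_le_kl (h.trans
    (iInf₂_le f ((le_iSup (fun M : {M // Irr ρ Q M} => killing q Q (Q ⊓ kerOn ρ M)) ⟨M, hM⟩ :
      _ ≤ X) hf))))) fun g hg => Core.mem_normalizer_of_forall_conj_mem fun a ha => by
    have h2 := (mem_normalizer_iff.1 hg a).1 ha.1
    refine ⟨h2, mem_iInf.2 fun f => mem_iInf.2 fun hf => ⟨h2, ?_⟩⟩
    simpa [hrep_apply] using (mem_iInf.1 (mem_iInf.1 ha.2 _) (hX ⟨g, hg⟩⁻¹ hf)).2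
  exact eq_top_of_kernel fun a ha h => hom_eq_zero_of_centralizer hS hc hQS
    (le_centralizer_iff.1 h1 ⟨ha, mem_iInf.2 fun f => mem_iInf.2 fun hf => ⟨ha, h f hf⟩⟩)

theorem pp_afix [Finite Γ] [IsAlgClosed F] [hq : Fact q.Prime] (hr : r.Prime) (hσ : σ ^ r = 1)
    (hrF : (r : F) ≠ 0) (hqr : q ≠ r) (hqF : (q : F) ≠ 0) (hQ : IsPGroup q Q) (hσQ : σ ∈ 𝒩(Q))
    (h2 : ⁅Q, Q⁆ ≤ 𝒞(Q)) {A : Submodule F W} (hP : PP ρ σ r A Q)
    (htop : ⨆ M : {M // Irr ρ Q M}, killing q Q (Q ⊓ kerOn ρ M) = ⊤) {s : ℕ} (hs : s.Prime)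
    (hsq : s ≠ q) (hsr : s ≠ r) {T : Subgroup Γ} (hT : IsPGroup s T) (hσT : σ ∈ 𝒩(T))
    (hTQ : T ≤ 𝒩(Q)) : PP (hrep q Q) ⟨σ, hσQ⟩ r
      (afix q ⟨σ, hσQ⟩ (Q ⊓ 𝒞(zpowers σ) ⊓ kerOn ρ A)) (T.subgroupOf _) := by
  have hσ' : (⟨σ, hσQ⟩ : 𝒩(Q)) ^ r = 1 := Subtype.ext hσ
  have good : ∀ M : Submodule F W, Q ⊓ 𝒞(zpowers σ) ⊓ kerOn ρ A ≤ kerOn ρ M →
      ∀ f ∈ killing q Q (Q ⊓ kerOn ρ M), tr (hrep q Q) ⟨σ, hσQ⟩ r f ∈
        afix q ⟨σ, hσQ⟩ (Q ⊓ 𝒞(zpowers σ) ⊓ kerOn ρ A) := by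
    refine fun M hM f hf => ⟨mem_fixSp_zpowers.2 (tr_fixed hσ' f), fun a ha => ?_⟩
    rw [tr_hom]
    refine Finset.sum_eq_zero fun j _ => ?_
    rw [mul_assoc, ← ha.1.2 _ (pow_mem (mem_zpowers σ) j), inv_mul_cancel_left]
    exact hf a ⟨ha.1.1, hM ha⟩
  intro w hw
  rw [← Submodule.smul_mem_iff _ (natCast_zmod_ne_zero hq.out hr hqr), ← tr_of_fixed hw]
  refine Submodule.mem_comap.1 (htop.ge.trans (iSup_le fun M f hf => ?_) trivial)
  by_cases hM : Q ⊓ 𝒞(zpowers σ) ⊓ kerOn ρ A ≤ kerOn ρ M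
  · exact Submodule.mem_sup_left (good M hM f hf)
  have hσN := (bad hr hσ hrF hq.out hqr hqF hQ hσQ h2 hP M.2 (Or.inr hM)).1
  set v := tr (hrep q Q) ⟨σ, hσQ⟩ r f
  have hv : v ∈ killing q Q (Q ⊓ kerOn ρ M) := fun a ha => by
    rw [tr_hom]
    exact Finset.sum_eq_zero fun j _ => hf _ ((mem_normalizer_iff''.1 (pow_mem hσN j) a).1 ha)
  have hσv : hrep q Q ⟨σ, hσQ⟩ v = v := tr_fixed hσ' f
  refine Submodule.mem_sup_right (Submodule.subset_span ⟨hσv, fun g hg => ?_⟩)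
  by_cases hM' : Q ⊓ 𝒞(zpowers σ) ⊓ kerOn ρ A ≤ kerOn ρ (M.1.map (ρ g))
  · exact Or.inr (good _ hM' _ fun a ha => hv _ ((mem_nker_map g.2).1 ha))
  left
  have hσN' := (bad hr hσ hrF hq.out hqr hqF hQ hσQ h2 hP (M.2.map g.2) (Or.inr hM')).1
  rw [show Q ⊓ kerOn ρ (M.1.map (ρ g)) = MulAut.conj (g : Γ) • (Q ⊓ kerOn ρ M) by
    ext x
    rw [mem_nker_map g.2, mem_pointwise_smul_iff_inv_smul_mem]
    rfl] at hσN'
  obtain ⟨c, hc, e⟩ := exists_centralizer_conj_smul_eq (zpowers_le.2 hσT)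
    (cop_of_isPGroup hr hσ hs hsr hT) (Or.inl (isSolvable_zpowers σ)) _ hg (zpowers_le.2 hσN)
    (zpowers_le.2 hσN')
  have ht : c⁻¹ * g ∈ T ⊓ 𝒩(Q ⊓ kerOn ρ M) := mem_inf.2 ⟨T.mul_mem (T.inv_mem hc.1) hg, by
    rw [Core.mem_normalizer_iff_conj_smul_eq, map_mul, mul_smul, map_inv, inv_smul_eq_iff, e]
    rfl⟩
  have h3 := bad_comm hr hσ hrF hq.out hs hsq hqr hsr hqF hQ hσQ h2 hP M.2 (Or.inr hM)
    (hT.to_le inf_le_left) (inf_normalizer_le_normalizer_inf ⟨hσT, le_normalizer hσN⟩)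
    (inf_le_left.trans hTQ) inf_le_right
  have h4 : hrep q Q ⁅g⁻¹ * ⟨c, hTQ hc.1⟩, ⟨σ, hσQ⟩⁆ v = v := hrep_eq_iff.2 fun a ha => by
    have := h3 (commutator_mem_commutator ha (inv_mem (commutator_mem_commutator (inv_mem ht)
      (mem_zpowers σ))))
    rw [mul_inv_rev, inv_inv] at this
    exact ⟨this.1, hv _ this⟩
  change hrep q Q _ (hrep q Q g v) = hrep q Q g v
  conv_rhs => rw [← h4, ← hσv]
  simp only [rep_rep]
  congr 2
  apply Subtype.ext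
  have := mem_cz.1 hc.2
  simp only [commutatorElement_def, coe_mul, coe_inv]
  calc σ * g = c * σ * c⁻¹ * g := by rw [← this]; group
    _ = _ := by group

end CfsgLib.Tur
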